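import Mathlib
import Cfsg.Agent.Lib.Co1.Loc
import Cfsg.Agent.Lib.Co1.Defs

/-! Traces of elements of `Co0`; monomial elements of octad type; a covering count in the code. -/

set_option autoImplicit false
set_option maxRecDepth 100000
set_option exponentiation.threshold 700

namespace H74.Co1

open Cfsg Finset H15 H16
open scoped symmDiff Pointwise

/-- eight times the trace -/
def tr (g : Co0) : ℤ := ∑ i, ((g • e8 i : leechLattice) : GolayPt → ℤ) i

theorem tr_mul_comm (g h : Co0) : tr (g * h) = tr (h * g) := by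
  have key : ∀ g h : Co0, 8 * tr (g * h) = ∑ i, ∑ j, ((h • e8 i : leechLattice) : GolayPt → ℤ) j *
      ((g • e8 j : leechLattice) : GolayPt → ℤ) i := fun g h => by
    rw [tr, Finset.mul_sum]
    exact Finset.sum_congr rfl fun i _ => by rw [mul_smul, eight_mul_co0]
  have := key g h
  rw [Finset.sum_comm] at this
  have h2 := key h g
  simp only [mul_comm] at this h2
  omega

theorem tr_conj (g x : Co0) : tr (g * x * g⁻¹) = tr x := by
  rw [tr_mul_comm, ← mul_assoc, inv_mul_cancel, one_mul]

theorem tr_neg (x : Co0) : tr (negCo0 * x) = -tr x := by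
  rw [tr, tr, ← Finset.sum_neg_distrib]
  exact Finset.sum_congr rfl fun i _ => by rw [mul_smul, negCo0_smul]; rfl

theorem tr_eps_perm {c : Finset GolayPt} (hc : c ∈ code) (σ : M24) :
    tr (eps c hc * permHom σ) = 8 * ((H96.Geo.Fix (σ : Equiv.Perm GolayPt)).card : ℤ) -
      16 * (c ∩ H96.Geo.Fix (σ : Equiv.Perm GolayPt)).card := by
  rw [tr, ← sum_ind, ← sum_ind, Finset.mul_sum, Finset.mul_sum, ← Finset.sum_sub_distrib]
  refine Finset.sum_congr rfl fun i _ => ?_
  rw [mul_smul, permHom_smul_e8, eps_smul_apply, coe_e8, Pi.single_apply, ind_apply, ind_apply]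
  simp only [Finset.mem_inter, H96.Geo.mem_Fix, eq_comm (a := i)]
  by_cases h1 : i ∈ c <;> by_cases h2 : (σ : Equiv.Perm GolayPt) i = i <;> simp [h1, h2]

theorem tr_eps {c : Finset GolayPt} (hc : c ∈ code) : tr (eps c hc) = 192 - 16 * c.card := by
  have := tr_eps_perm hc 1
  have e : H96.Geo.Fix ((1 : M24) : Equiv.Perm GolayPt) = Finset.univ := by
    ext p; simp [H96.Geo.mem_Fix]
  rw [map_one, mul_one, e, Finset.inter_univ, Finset.card_univ, card_pt] at this
  exact this

theorem z0_eq : z0 = mk1 (eps _ oct0_mem.1) := by rw [z0, epsm_eq isCode_oct.1]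

/-- of octad type -/
def Zt (a : Co0) : Prop := IsConj (mk1 a) z0

theorem Zt.spec {a : Co0} (h : Zt a) : a * a = 1 ∧ (tr a = 64 ∨ tr a = -64) := by
  rw [Zt, z0_eq] at h
  obtain ⟨g, e⟩ := exists_conj_of_isConj h
  have t : tr (eps _ oct0_mem.1) = 64 :=
    (tr_eps oct0_mem.1).trans (by rw [oct0_mem.2]; norm_num)
  have b : g * (a * a) * g⁻¹ = g * a * g⁻¹ * (g * a * g⁻¹) := by group
  have c : g * (a * a) * g⁻¹ = 1 → a * a = 1 := fun h => by
    rw [mul_inv_eq_one, mul_eq_left] at h; exact h
  rw [← tr_conj g a]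
  rcases e with e | e <;> rw [e] at b ⊢
  · exact ⟨c (b.trans (eps_mul_self _)), Or.inl t⟩
  · exact ⟨c (b.trans ((neg_mul_sq _).trans (eps_mul_self _))), Or.inr (by rw [tr_neg, t])⟩

/-- octads and their complements -/
def It (c : Finset GolayPt) : Prop := c.card = 8 ∨ c.card = 16

theorem zt_eps {c : Finset GolayPt} (hc : c ∈ code) : Zt (eps c hc) ↔ It c := by
  constructor
  · intro h
    have := h.spec.2
    rw [tr_eps] at this
    unfold It
    omega
  · intro h
    have hne : mk1 (eps c hc) ≠ 1 := by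
      rw [Ne, mk1_eps_eq_one]
      rintro (rfl | rfl) <;> revert h <;> unfold It <;> decide
    obtain ⟨σ, e⟩ := eps_classes oct0_mem dod1_mem hc hne
    rcases e with e | e
    · rw [Zt, z0_eq, ← e]
      exact isConj_mk1 (g := permHom σ) (Or.inl rfl)
    · rw [map_mul, map_mul, map_inv] at e
      have := (mem_mono_of_mk1 hc dod1_mem e).2
      unfold It at h
      omega

theorem Zt.fix {c : Finset GolayPt} {hc : c ∈ code} {σ : M24} (h : Zt (eps c hc * permHom σ))
    (h1 : σ ≠ 1) : H96.Geo.Fix (σ : Equiv.Perm GolayPt) ∈ octads ∧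
      ((c ∩ H96.Geo.Fix (σ : Equiv.Perm GolayPt)).card = 0 ∨
        (c ∩ H96.Geo.Fix (σ : Equiv.Perm GolayPt)).card = 8) := by
  obtain ⟨a, t⟩ := h.spec
  rw [eps_perm_mul, ← mul_one (1 : Co0)] at a
  nth_rewrite 1 [← eps_empty] at a
  rw [← map_one permHom] at a
  have o2 : orderOf (σ : Equiv.Perm GolayPt) = 2 := by
    rw [Subgroup.orderOf_coe]
    exact orderOf_eq_prime (by rw [pow_two]; exact (eps_perm_inj a).1) h1
  rw [tr_eps_perm] at t
  have l := Finset.card_le_card (Finset.inter_subset_right (s₁ := c)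
    (s₂ := H96.Geo.Fix (σ : Equiv.Perm GolayPt)))
  have m := H96.Geo.Fix_mem_octads σ.2 o2 (by omega)
  have := m.2
  exact ⟨m, by omega⟩

/-- an element of octad type centralising a dodecad, whose product with it is of octad type -/
theorem lemK {D : Finset GolayPt} (hD : D ∈ dodecads) {a : Co0} (h : Zt a)
    (hc : mk1 a * mk1 (eps D hD.1) = mk1 (eps D hD.1) * mk1 a) (h' : Zt (eps D hD.1 * a)) :
    a ∈ E0 := by
  obtain ⟨c, hc', σ, rfl⟩ := exists_eps_perm (mem_mono_of_mk1 hD.1 hD (g := a)
    (by rw [hc, mul_inv_cancel_right])).1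
  by_cases h1 : σ = 1
  · rw [h1, map_one, mul_one]; exact eps_mem_E0 _
  rw [← mul_assoc, eps_mul_eps] at h'
  obtain ⟨m, a1⟩ := h.fix h1
  obtain ⟨-, a2⟩ := h'.fix h1
  have a3 := card_inter_octad_dodecad m hD
  generalize H96.Geo.Fix (σ : Equiv.Perm GolayPt) = F at *
  have a4 := H16.card_symmDiff_add (D ∩ F) (c ∩ F)
  have a5 : (D ∩ F) ∆ (c ∩ F) = D ∆ c ∩ F := by
    ext p; simp only [Finset.mem_symmDiff, Finset.mem_inter]; tauto
  rw [a5, Finset.inter_comm D F] at a4
  have a6 := m.2
  exfalso
  rcases a1 with a1 | a1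
  · rw [Finset.card_eq_zero.1 a1] at a4
    simp only [Finset.inter_empty, Finset.card_empty] at a4
    omega
  · have : c ∩ F = F := Finset.eq_of_subset_of_card_le Finset.inter_subset_right (by omega)
    rw [this, Finset.inter_comm (F ∩ D), ← Finset.inter_assoc, Finset.inter_self] at a4
    omega

theorem lemK2 {a : Co0} (ha : a ∈ monoGroup) (h : Zt a) {x : Co0} (hx : x ∈ E0) :
    a * x * (a * x) = 1 ∨ Zt (a * x * (a * x)) := by
  obtain ⟨X, hX, rfl⟩ := hx
  have sq := h.spec.1
  obtain ⟨c, hc, σ, rfl⟩ := exists_eps_perm ha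
  by_cases h1 : σ = 1
  · left
    rw [h1, map_one, mul_one, eps_mul_eps, eps_mul_self]
  obtain ⟨m, -⟩ := h.fix h1
  have e : eps c hc * permHom σ * eps X hX * (eps c hc * permHom σ * eps X hX) =
      eps (((σ : Equiv.Perm GolayPt) • X) ∆ X) (symmDiff_mem_code (smul_mem_code σ.2 hX) hX) := by
    have e1 : eps c hc * permHom σ * eps X hX =
        eps _ (smul_mem_code σ.2 hX) * (eps c hc * permHom σ) := by
      rw [mul_assoc, permHom_mul_eps, ← mul_assoc, eps_comm hc, mul_assoc]
    rw [← eps_mul_eps (smul_mem_code σ.2 hX) hX]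
    nth_rewrite 1 [e1]
    rw [mul_assoc, ← mul_assoc (eps c hc * permHom σ), sq, one_mul]
  rw [e, zt_eps]
  have d : H96.Geo.Fix (σ : Equiv.Perm GolayPt) ∩ (((σ : Equiv.Perm GolayPt) • X) ∆ X) = ∅ := by
    ext p
    simp only [Finset.mem_inter, Finset.mem_symmDiff, H96.Geo.mem_Fix, Finset.notMem_empty,
      iff_false, not_and]
    intro hp
    have := H15.apply_mem_smul_iff (σ : Equiv.Perm GolayPt) X p
    rw [hp] at this
    tauto
  have hY := symmDiff_mem_code (smul_mem_code σ.2 hX) hX
  rcases card_of_mem_code hY with k | k | k | k | k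
  · left
    rw [← eps_empty]
    exact eps_congr (Finset.card_eq_zero.1 k)
  · exact Or.inr (Or.inl k)
  · have := card_inter_octad_dodecad m (d := _) ⟨hY, k⟩
    rw [d, Finset.card_empty] at this
    omega
  · exact Or.inr (Or.inr k)
  · rw [Finset.eq_univ_of_card _ (k.trans card_pt.symm), Finset.inter_univ] at d
    have := m.2
    rw [d, Finset.card_empty] at this
    omega

/-! ### the covering count -/

theorem card_le_48 {B : Finset (Finset GolayPt)} (hx : ∀ a ∈ B, ∀ b ∈ B, a ∆ b ∈ B)
    (hw : ∀ c ∈ B, c = ∅ ∨ c = Finset.univ ∨ c.card = 12) : B.card ≤ 48 := by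
  classical
  let s : Finset GolayPt → GolayPt → ℤ := fun c i => if i ∈ c then -1 else 1
  have s1 : ∀ a b i, s (a ∆ b) i = s a i * s b i := fun a b i => by
    by_cases h1 : i ∈ a <;> by_cases h2 : i ∈ b <;> simp [s, h1, h2, Finset.mem_symmDiff]
  have s2 : ∀ a i, s a i * s a i = 1 := fun a i => by
    by_cases h1 : i ∈ a <;> simp [s, h1]
  have s3 : ∀ a, ∑ i, s a i = 24 - 2 * a.card := fun a => by
    rw [← sum_ind, Finset.mul_sum, show (24 : ℤ) = ∑ _i : GolayPt, 1 by simp [card_pt],
      ← Finset.sum_sub_distrib]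
    refine Finset.sum_congr rfl fun i _ => ?_
    by_cases h1 : i ∈ a <;> simp [s, h1, ind_apply]
  have s4 : ∀ i j, 0 ≤ ∑ c ∈ B, s c i * s c j := fun i j => by
    by_cases h : ∃ b ∈ B, s b i * s b j = -1
    · obtain ⟨b, hb, e⟩ := h
      have : ∑ c ∈ B, s c i * s c j = ∑ c ∈ B, s (c ∆ b) i * s (c ∆ b) j :=
        Finset.sum_nbij' (fun c => c ∆ b) (fun c => c ∆ b) (fun c hc => hx c hc b hb)
          (fun c hc => hx c hc b hb) (fun c _ => symmDiff_symmDiff_cancel_right _ _)
          (fun c _ => symmDiff_symmDiff_cancel_right _ _)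
          (fun c _ => by rw [symmDiff_symmDiff_cancel_right])
      have h2 : ∑ c ∈ B, s (c ∆ b) i * s (c ∆ b) j = -∑ c ∈ B, s c i * s c j := by
        rw [← Finset.sum_neg_distrib]
        refine Finset.sum_congr rfl fun c _ => ?_
        rw [s1, s1, mul_mul_mul_comm, e]; ring
      omega
    · refine Finset.sum_nonneg fun c hc => ?_
      by_contra hn
      refine h ⟨c, hc, ?_⟩
      revert hn
      by_cases h1 : i ∈ c <;> by_cases h2 : j ∈ c <;> simp [s, h1, h2]
  have a1 : ∑ c ∈ B, (∑ i, s c i) ^ 2 = ∑ i, ∑ j, ∑ c ∈ B, s c i * s c j := by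
    simp only [pow_two, Finset.sum_mul_sum]
    rw [Finset.sum_comm]
    exact Finset.sum_congr rfl fun i _ => Finset.sum_comm
  have a2 : ∑ _i : GolayPt, (B.card : ℤ) ≤ ∑ i, ∑ j, ∑ c ∈ B, s c i * s c j :=
    Finset.sum_le_sum fun i _ => by
      refine le_trans ?_ (Finset.single_le_sum (f := fun j => ∑ c ∈ B, s c i * s c j)
        (fun j _ => s4 i j) (Finset.mem_univ i))
      simp [s2]
  have a3 : ∑ c ∈ B, (∑ i, s c i) ^ 2 ≤
      ∑ c ∈ ({∅, Finset.univ} : Finset (Finset GolayPt)), (∑ i, s c i) ^ 2 := by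
    rw [← Finset.sum_filter_ne_zero]
    refine Finset.sum_le_sum_of_subset_of_nonneg (fun c hc => ?_) fun _ _ _ => sq_nonneg _
    obtain ⟨hc, h0⟩ := Finset.mem_filter.1 hc
    rcases hw c hc with rfl | rfl | e
    · simp
    · simp
    · rw [s3, e] at h0; norm_num at h0
  rw [Finset.sum_pair (by decide), s3, s3, Finset.card_empty, Finset.card_univ, card_pt] at a3
  rw [Finset.sum_const, Finset.card_univ, card_pt, nsmul_eq_mul] at a2
  push_cast at a2 a3
  omega

/-- kernel test for `It` -/
def itM (m : ℕ) : Bool := bit 0x10100 (wt m)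

theorem itM_iff (m : ℕ) : itM m = true ↔ It (ofMask m) := by
  have h : ∀ w < 25, bit 0x10100 w = true ↔ w = 8 ∨ w = 16 := by decide +kernel
  rw [itM, It, card_ofMask, h]
  rw [← card_ofMask]
  exact Nat.lt_succ_of_le (Finset.card_le_univ _)

/-- number of list members `m` with bit `(m + t) mod 4096` set in the table -/
def cntL (S : ℕ) (L : List ℕ) (t : ℕ) : ℕ :=
  List.rec 0 (fun m _ ih => Bool.rec ih (Nat.succ ih) (bit S (Nat.land (Nat.xor m t) 4095))) L

theorem cntL_eq (S : ℕ) (L : List ℕ) (t : ℕ) :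
    cntL S L t = (L.filter fun m => bit S (Nat.land (Nat.xor m t) 4095)).length := by
  induction L with
  | nil => rfl
  | cons m L ih =>
    have : cntL S (m :: L) t = Bool.rec (cntL S L t) (Nat.succ (cntL S L t))
      (bit S (Nat.land (Nat.xor m t) 4095)) := rfl
    rw [this, List.filter_cons, ih]
    cases bit S (Nat.land (Nat.xor m t) 4095) <;> rfl

/-- the code words `c` with `c` and `c + D` of weight 8 or 16 -/
def tabL : List ℕ := [13062145, 9347075, 10305542, 5902343, 7221256, 11100169, 2605066, 14716939, 12222476, 3416079, 10170384, 1413139, 5210132, 8966165, 421910, 12656663, 16056344, 3297305, 2207772, 6832158, 10846245, 2826278, 2031657, 4526126, 8536111, 2969648, 15335473, 11538486, 8663097, 692282, 2854977, 10825794, 13303882, 806987, 9506893, 4063314, 10698836, 6557781, 663645, 8683614, 5939296, 9310308, 2162811, 16101503, 864389, 8622214, 7397512, 3739786, 10768524, 6488205, 13373586, 737427, 9830549, 14676119, 2916505, 10625178, 2494627, 8978620, 11010247, 463064, 4485344, 9486564, 4182267,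 15425791, 11731203, 15274244, 3031301, 8855820, 622863, 10916112, 2634003, 8474906, 4587803, 1839388, 11272490, 12575023, 1110320, 201013, 13721920, 2232654, 9240913, 8286559, 4243818, 15716725, 9048457, 2425238, 5390753, 4301220, 15643067, 16601534, 582081, 16486863, 5538256, 11006430, 3154402, 10433021, 12325377, 15073798, 2183687, 430605, 8925710, 2564625, 11108882, 9323032, 4788761, 1245726, 5268006, 10687016, 786999, 16740921, 5296705, 2949708, 8524371, 16761438, 2220640, 9368191, 8716939, 2757268, 1352353, 15192751, 4768432, 12300990, 12624578, 12415695, 1204944, 7320285, 5309160, 16650999, 4645632, 987906, 10486557, 15332127, 15762208, 6263615, 1090380, 12563283, 1852256, 15676270, 4203377, 11752319, 5780352, 1164162, 12506013, 16196511, 8414120, 3109815, 6308804, 13587419, 168928, 15852526, 6222833, 11371519, 10630149, 2921478, 9835530, 742412, 13370381, 6493202, 10765331, 3736597, 8619033, 861210, 12641313, 8983587, 2491452, 7337022, 1369154, 459847, 11015256, 12317789, 14636143, 7357552, 11469952,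 5279, 1664160, 5280930, 16745661, 11957439, 4441280, 5252293, 16725210, 15520991, 11515111, 42232, 5817604, 2430217, 9045270, 16241947, 5514536, 16463159, 6337856, 13608287, 1148257, 157028, 11367803, 12490110, 9610624, 15693197, 4220306, 4044191, 2409888, 9164223, 1070536, 12535255, 13108704, 14411237, 7665146, 6755839, 2754059, 16692751, 5350928, 8721940, 1230376, 12441143, 4744776, 15169111, 9451104, 4490852, 15439483, 4138623, 13911680, 63108, 11527835, 8083103, 6432416, 13448895, 3704512, 9934559, 18147, 13956839, 8120056, 11491068, 3172097, 10450718, 4282144, 567074, 10991421, 15615807, 5375810, 3135311, 8439632, 16586589, 6219630, 15857521, 4229001, 15701910, 16181161, 12523435, 1050548, 5896118, 337856, 7927757, 14149586, 11155423, 16431074, 4057059, 6813668, 14514152, 5494763, 16566260, 7497719, 13166587, 9631740, 5613565, 11163650, 7145475, 3610628, 9279496, 210955, 11282452, 2263063, 9963547, 12720156, 346141, 5621792, 2627629, 8849458, 16439359, 10881097, 15726667, 4253780, 596054, 1075305, 12548214,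 919694, 10557585, 190626, 8337583, 13641904, 11401405, 1161408, 5785794, 16210141, 12495071, 6326497, 13605118, 5286147, 8657159, 2820376, 16759068, 6842656, 13072703, 3328320, 10344799, 8694112, 5249380, 16714107, 2865535, 12638592, 1337732, 12286363, 7326111, 1608104, 12032439, 4336072, 15546839, 8055275, 11426287, 84464, 14023156, 10021376, 9112069, 2365978, 3668511, 4241960, 15706679, 7612992, 14367327, 12733024, 12556909, 1084018, 7166591, 4287105, 5409412, 16620187, 15628958, 3168928, 10439359, 314056, 11262679, 535268, 7731945, 14346998, 10959611, 16734983, 5262104, 1256224, 52005, 11524922, 12335935, 4819776, 31554, 11496285, 15113055, 16771936, 5307263, 9419663, 2141072, 4459426, 5761959, 16317368, 15408061, 9440193, 14285763, 7793628, 4135902, 15916005, 8158182, 13040618, 6011884, 10284013, 3406834, 16034803, 6941685, 13855737, 6147066, 5405696, 10554382, 924689, 16608287, 3189796, 10468411, 13667400, 8363095, 580704, 4271202, 15613053, 10996863, 5024896, 12573838, 1100945, 14924959, 4213932, 15686835,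 10513600, 1015007, 1445088, 6290658, 15789309, 12131583, 126216, 11468055, 9456930, 15572271, 4361520, 4152637, 4476225, 12008783, 1584464, 15424862, 14019947, 8060276, 7409024, 14556575, 15777, 8252844, 13827507, 11480510, 36294, 15990216, 6090199, 11509209, 15531489, 11988454, 7454183, 5668333, 14212590, 7851505, 16346610, 14593528, 1703417, 4451838, 6344194, 13622813, 5770785, 11238959, 290352, 16195134, 175681, 1134148, 12475995, 11386462, 14351977, 7728758, 1060490, 12533397, 8490656, 7536302, 14544561, 3055295, 16576202, 15666895, 4202192, 5504725, 14937827, 12189412, 8302309, 14143212, 5861103, 16154352, 7921395, 13745914, 1502971, 5046012, 1351424, 12594948, 7290651, 12291871, 16314151, 5766968, 7798595, 14282588, 6152037, 13860710, 2101096, 6946666, 16039788, 3403629, 10289010, 6008691, 13037429, 9379703, 8155001, 15912826, 675712, 14614404, 7466907, 10837919, 8093601, 16113570, 10219434, 6078379, 12713901, 7270322, 15970228, 3473333, 5951421, 13922238, 16084933, 8114118, 5238729, 1441742, 13807567,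 8241104, 12251089, 14745558, 13950937, 5930970, 9945057, 14569443, 13479910, 720871, 4120552, 16355305, 7811050, 11567083, 15364076, 6606831, 13361136, 4554739, 2060276, 14172149, 5677046, 9555959, 10874872, 6471673, 7430140, 3715070]

/-- table of the code words `c` of weight 8 or 16 with `c + D` of weight 12 -/
def tabS : ℕ := 0x2c006000d8a820849ac840a03588e800f900ca00a8d88420c89aa04060884200a2e44880f64828006e40a180c08008a0e4a28048820090843880084010050301a4e88810f840c8809e20a88025600008e8a410882c022001c24004100010a4065ca06a000818228090c480000210011c09a0c0004401101801000923024501b6e8528088aca09a00ca84d80060c2100052e888800650c0006021280008000643f280c420810880442a900008004121091c08800201228110001054090027125cf988240028044021c0200250002488064200608802841420400a03040017115308828480500900300410018305012356210110410003056f011a047601055623c46aa0806e205880f6a0c000820880846ac480a0c18008200c00900a01214110ca88e80020c050020428214011060042601124000a400403840220140024119f3a48e400902a080008814480400110389084820010000954220110810423014fc26000100014840600030a600111174a00084306001b21530059053511014a176d80a240c490008018088022000305903880084000012309014418100056053a60250800082002438004403411082517100006a4011504790113021f0811172580c0a0080210011c210900411201452705100103018502760014126f01122745004211060205591304211b150053009f001711ac050213592104151b00060034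

theorem chk_L : allLt2 64 64 (fun u => force (cw u) fun m =>
    (!(itM m && itM (Nat.xor m dod1)) || tabL.any (Nat.beq m)) &&
    (!(itM m && !(itM (Nat.xor m dod1))) || bit tabS u)) = true := by decide +kernel

theorem chk_cnt : allLt2 64 64 (fun u => force (cw u) fun t =>
    itM t || itM (Nat.xor t dod1) || Nat.ble (cntL tabS tabL t) 120) = true := by decide +kernel

theorem no_cover {B : Finset (Finset GolayPt)} (hB : ∀ c ∈ B, c ∈ code)
    (hx : ∀ a ∈ B, ∀ b ∈ B, a ∆ b ∈ B) (hu : Finset.univ ∈ B) (hD : ofMask dod1 ∈ B)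
    (hw : ∀ c ∈ B, ¬ It c) (hc : ∀ Y ∈ code, It Y → ¬ It (Y ∆ ofMask dod1) →
      ∃ T ∈ B, It (Y ∆ T) ∧ It (Y ∆ T ∆ ofMask dod1)) : False := by
  classical
  have h0 : ∅ ∈ B := by simpa using hx _ hu _ hu
  have c1 : B.card ≤ 48 := card_le_48 hx fun c hc => by
    have := hw c hc
    unfold It at this
    rcases card_of_mem_code (hB c hc) with e | e | e | e | e
    · exact Or.inl (Finset.card_eq_zero.1 e)
    · omega
    · exact Or.inr (Or.inr e)
    · omega
    · exact Or.inr (Or.inl (Finset.eq_univ_of_card c (e.trans card_pt.symm)))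
  let K : Subgroup Co0 :=
    { carrier := {g | ∃ c, ∃ hc : c ∈ B, g = eps c (hB c hc)}
      one_mem' := ⟨_, h0, eps_empty.symm⟩
      mul_mem' := by
        rintro _ _ ⟨c, hc, rfl⟩ ⟨d, hd, rfl⟩
        exact ⟨_, hx c hc d hd, eps_mul_eps _ _⟩
      inv_mem' := by
        rintro _ ⟨c, hc, rfl⟩
        exact ⟨_, hc, eps_inv _⟩ }
  have c2 : Nat.card K = B.card := by
    rw [← Nat.card_eq_finsetCard]
    symm
    refine Nat.card_congr (Equiv.ofBijective (fun c => ⟨eps c.1 (hB _ c.2), _, c.2, rfl⟩) ⟨?_, ?_⟩)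
    · intro c d e
      exact Subtype.ext (eps_inj (hc := hB _ c.2) (hd := hB _ d.2) (congrArg Subtype.val e))
    · rintro ⟨_, c, hc, rfl⟩
      exact ⟨⟨c, hc⟩, rfl⟩
  have c3 : B.card ∣ 2 ^ 12 := by
    rw [← c2, show 2 ^ 12 = 4096 from rfl, ← card_E0]
    refine Subgroup.card_dvd_of_le ?_
    rintro _ ⟨c, hc, rfl⟩
    exact eps_mem_E0 _
  obtain ⟨k, -, c4⟩ := (Nat.dvd_prime_pow Nat.prime_two).1 c3
  have c5 : B.card ≤ 32 := by
    rw [c4] at c1 ⊢
    by_contra hk
    have : 6 ≤ k := by
      by_contra hk'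
      exact hk (Nat.pow_le_pow_right (n := 2) (by norm_num) (show k ≤ 5 by omega))
    have := Nat.pow_le_pow_right (n := 2) (by norm_num) this
    omega
  let V : Finset (Finset GolayPt) := {∅, Finset.univ, ofMask dod1, (ofMask dod1)ᶜ}
  have v1 : V ⊆ B := by
    intro v hv
    simp only [V, Finset.mem_insert, Finset.mem_singleton] at hv
    rcases hv with rfl | rfl | rfl | rfl
    · exact h0
    · exact hu
    · exact hD
    · rw [compl_eq_symmDiff]; exact hx _ hD _ hu
  have v2 : V.card = 4 := by decide +kernel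
  have itc : ∀ c : Finset GolayPt, It (c ∆ Finset.univ) ↔ It c := fun c => by
    have := Finset.card_le_univ c
    rw [← compl_eq_symmDiff, It, It, Finset.card_compl, card_pt] at *
    omega
  have v3 : ∀ v ∈ V, ∀ c, It (c ∆ v) ∧ It (c ∆ v ∆ ofMask dod1) ↔ It c ∧ It (c ∆ ofMask dod1) := by
    intro v hv c
    simp only [V, Finset.mem_insert, Finset.mem_singleton] at hv
    rcases hv with rfl | rfl | rfl | rfl
    · rw [show c ∆ ∅ = c from symmDiff_bot c]
    · rw [symmDiff_right_comm, itc, itc]
    · rw [symmDiff_symmDiff_cancel_right, and_comm]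
    · rw [compl_eq_symmDiff, ← symmDiff_assoc, symmDiff_right_comm _ _ (ofMask dod1), itc, itc,
        symmDiff_symmDiff_cancel_right, and_comm]
  let S := codeF.filter fun Y => It Y ∧ ¬ It (Y ∆ ofMask dod1)
  have s1 : S.card = 990 := by
    rw [card_codeF_filter (fun m => itM m && !(itM (Nat.xor m dod1))) _ fun u _ => by
      rw [Bool.and_eq_true, Bool.not_eq_true', ← Bool.not_eq_true, itM_iff, itM_iff, ofMask_xor]]
    decide +kernel
  have key := Finset.card_mul_le_card_mul (s := S) (t := B \ V) (m := 4) (n := 120)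
    (fun Y T => It (Y ∆ T) ∧ It (Y ∆ T ∆ ofMask dod1)) (fun Y hY => ?_) fun T hT => ?_
  · rw [s1, Finset.card_sdiff_of_subset v1, v2] at key
    omega
  · obtain ⟨h1, h2, h3⟩ := Finset.mem_filter.1 hY
    obtain ⟨T, hT, h4⟩ := hc Y ((mem_codeF _).1 h1) h2 h3
    rw [← v2]
    refine Finset.card_le_card_of_injOn (fun v => T ∆ v) (fun v hv => ?_)
      (symmDiff_right_injective T).injOn
    have a : It (Y ∆ (T ∆ v)) ∧ It (Y ∆ (T ∆ v) ∆ ofMask dod1) := by
      rw [← symmDiff_assoc]; exact (v3 v hv _).2 h4
    refine Finset.mem_coe.2 ((Finset.mem_bipartiteAbove _).2 ⟨Finset.mem_sdiff.2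
      ⟨hx _ hT _ (v1 hv), fun h => h3 ((v3 _ h Y).1 a).2⟩, a⟩)
  · have hT' := (Finset.mem_sdiff.1 hT).1
    obtain ⟨t, ht, rfl⟩ := exists_cw_of_mem_codeSets (hB T hT')
    have a := allLt2_iff.1 chk_cnt t ht
    simp only [force_eq, Bool.or_eq_true, itM_iff, ofMask_xor, Nat.ble_eq] at a
    have b := a.resolve_left (by
      rintro (h | h)
      · exact hw _ hT' h
      · exact hw _ (hx _ hT' _ hD) h)
    rw [cntL_eq] at b
    refine le_trans ?_ (le_trans (List.toFinset_card_le _) b)
    refine Finset.card_le_card_of_surjOn (fun m => ofMask m ∆ ofMask (cw t)) fun Y hY => ?_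
    obtain ⟨h1, h4⟩ := (Finset.mem_bipartiteBelow _).1 (Finset.mem_coe.1 hY)
    obtain ⟨h1, h2⟩ := Finset.mem_filter.1 h1
    obtain ⟨y, hy, rfl⟩ := exists_cw_of_mem_codeSets ((mem_codeF _).1 h1)
    have lt : y ^^^ t < 4096 := Nat.xor_lt_two_pow (n := 12) hy ht
    have e := cw_xor hy ht
    have p1 := allLt2_iff.1 chk_L _ lt
    have p2 := allLt2_iff.1 chk_L _ hy
    simp only [force_eq, Bool.and_eq_true, Bool.or_eq_true, Bool.not_eq_true', ← Bool.not_eq_true,
      itM_iff, ofMask_xor, List.any_eq_true, Nat.beq_eq] at p1 p2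
    rw [e, ofMask_xor'] at p1
    obtain ⟨m, hm, rfl⟩ := p1.1.resolve_left fun h => h h4
    refine ⟨cw y ^^^ cw t, ?_, by
      show ofMask _ ∆ _ = _
      rw [ofMask_xor', symmDiff_symmDiff_cancel_right]⟩
    rw [List.coe_toFinset, Set.mem_ofPred_eq, List.mem_filter]
    refine ⟨hm, ?_⟩
    have : Nat.land (Nat.xor (cw y ^^^ cw t) (cw t)) 4095 = y := by
      rw [land_4095]
      show (cw y ^^^ cw t ^^^ cw t) % 4096 = y
      rw [Nat.xor_xor_cancel_right, cw_mod hy]
    rw [this]
    exact p2.2.resolve_left fun h => h h2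

theorem eqns_Tr : True := by
  have := @tr.eq_1
  have := @Zt.eq_1
  have := @It.eq_1
  have := @itM.eq_1
  have := @cntL.eq_1
  have := @tabL.eq_1
  have := @tabS.eq_1
  exact True.intro

end H74.Co1
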