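import Mathlib
import Cfsg.Agent.Lib.Co1.Tr
import Cfsg.Agent.S5439

/-! A finite overgroup of `Co1` in which the centraliser of the 2-central involution does not grow
is `Co1`. -/

set_option autoImplicit false
set_option maxRecDepth 100000
set_option exponentiation.threshold 700

namespace H74.Co1

open Cfsg Finset H15 H16
open scoped symmDiff Pointwise

section
variable {G : Type*} [Group G]

/-- a copy of `Co1` in `G` in which the members of `I` are the involutions of octad type, each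
fixing a unique coset -/
structure Pt (I : Set G) (f : Co0 →* G) : Prop where
  eq_iff : ∀ a b, f a = f b ↔ mk1 a = mk1 b
  mem : ∀ a, f a ∈ I ↔ Zt a
  fus : ∀ u ∈ I, u ∈ f.range → ∀ k : G, k * u * k⁻¹ ∈ f.range → k ∈ f.range

theorem Pt.conj {I : Set G} (hI : ∀ g : G, ∀ u ∈ I, g * u * g⁻¹ ∈ I) {f : Co0 →* G} (h : Pt I f)
    (g : G) : Pt I ((MulAut.conj g).toMonoidHom.comp f) where
  eq_iff a b := (MulAut.conj g).injective.eq_iff.trans (h.eq_iff a b)
  mem a := by
    rw [← h.mem]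
    refine ⟨fun e => ?_, hI g _⟩
    have := hI g⁻¹ _ e
    simpa [mul_assoc] using this
  fus u hu := by
    rintro ⟨a, rfl⟩ k ⟨b, e⟩
    have h1 : f a ∈ I := by
      have := hI g⁻¹ _ hu
      simpa [mul_assoc] using this
    obtain ⟨c, hc⟩ := h.fus _ h1 ⟨a, rfl⟩ (g⁻¹ * k * g) ⟨b, by
      have e' : g * f b * g⁻¹ = k * (g * f a * g⁻¹) * k⁻¹ := e
      calc f b = g⁻¹ * (g * f b * g⁻¹) * g := by group
        _ = _ := by rw [e']; group⟩
    exact ⟨c, by
      show g * f c * g⁻¹ = k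
      rw [hc]; group⟩

theorem Pt.cent {I : Set G} {f : Co0 →* G} (h : Pt I f) {u k : G} (hu : u ∈ I) (hu' : u ∈ f.range)
    (e : k * u = u * k) : k ∈ f.range :=
  h.fus u hu hu' k (by rw [e, mul_inv_cancel_right]; exact hu')

theorem Pt.comm {I : Set G} {f : Co0 →* G} (h : Pt I f) {a b : Co0} (e : f a * f b = f b * f a) :
    mk1 a * mk1 b = mk1 b * mk1 a := by
  rwa [← map_mul, ← map_mul, h.eq_iff, map_mul, map_mul] at e

theorem inv_conj_pow {x r : G} (h : x * r = r⁻¹ * x) (n : ℕ) : x * r ^ n = (r ^ n)⁻¹ * x := by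
  induction n with
  | zero => simp
  | succ n ih => rw [pow_succ, ← mul_assoc, ih, mul_assoc, h, ← mul_assoc, ← mul_inv_rev, ← pow_succ',
      pow_succ]

theorem conj_refl {x r : G} (h : x * r = r⁻¹ * x) (n : ℕ) :
    r ^ n * x * (r ^ n)⁻¹ = r ^ (2 * n) * x := by
  have := inv_conj_pow h n
  rw [two_mul, pow_add, mul_assoc, mul_assoc]
  congr 1
  rw [mul_inv_eq_iff_eq_mul, mul_assoc, this, mul_inv_cancel_left]

/-- the dihedral argument -/
theorem Pt.cover [Finite G] {I : Set G} (hI : ∀ g : G, ∀ u ∈ I, g * u * g⁻¹ ∈ I) {f f' : Co0 →* G}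
    (h : Pt I f) (h' : Pt I f') (hd : f' (eps _ dod1_mem.1) = f (eps _ dod1_mem.1))
    (dj : ∀ u ∈ I, u ∈ f.range → u ∉ f'.range) {X Y : Finset GolayPt} (hX : X ∈ code) (hY : Y ∈ code)
    (x1 : It X) (x2 : It (X ∆ ofMask dod1)) (y1 : It Y) (y2 : ¬ It (Y ∆ ofMask dod1)) :
    ∃ T, ∃ hT : T ∈ code, f (eps T hT) ∈ f'.range ∧ It (Y ∆ T) ∧ It (Y ∆ T ∆ ofMask dod1) := by
  set d := f (eps _ dod1_mem.1) with hd0
  set x := f' (eps X hX) with hx0
  set y := f (eps Y hY) with hy0
  have xx : x * x = 1 := by rw [hx0, ← map_mul, eps_mul_self, map_one]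
  have yy : y * y = 1 := by rw [hy0, ← map_mul, eps_mul_self, map_one]
  have xd : Commute x d := by
    show x * d = d * x
    rw [← hd, hx0, ← map_mul, ← map_mul, eps_comm]
  have yd : Commute y d := by
    show y * d = d * y
    rw [hd0, hy0, ← map_mul, ← map_mul, eps_comm]
  have xI : x ∈ I := (h'.mem _).2 ((zt_eps hX).2 x1)
  have yI : y ∈ I := (h.mem _).2 ((zt_eps hY).2 y1)
  have xdI : x * d ∈ I := by
    rw [← hd, hx0, ← map_mul, eps_mul_eps]; exact (h'.mem _).2 ((zt_eps _).2 x2)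
  have ydI : y * d ∉ I := by
    rw [hd0, hy0, ← map_mul, eps_mul_eps, h.mem, zt_eps]; exact y2
  have xr : x ∈ f'.range := ⟨_, rfl⟩
  have yr : y ∈ f.range := ⟨_, rfl⟩
  set r := x * y with hr
  have ri : r⁻¹ = y * x := inv_eq_of_mul_eq_one_right (by
    rw [hr, mul_assoc, ← mul_assoc y, yy, one_mul, xx])
  have a2 : x * r = r⁻¹ * x := by
    rw [ri, hr, ← mul_assoc, xx, one_mul, mul_assoc, xx, mul_one]
  have a3 : y * r = r⁻¹ * y := by rw [ri, hr, mul_assoc]
  have a4 : r * y = x := by rw [hr, mul_assoc, yy, mul_one]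
  have rd : ∀ n : ℕ, Commute (r ^ n) d := fun n => (xd.mul_left yd).pow_left n
  have cj : ∀ n : ℕ, r ^ (2 * n) * x ∈ I ∧ r ^ (2 * n) * x * d ∈ I := fun n => by
    rw [← conj_refl a2]
    refine ⟨hI _ _ xI, ?_⟩
    have := hI (r ^ n) _ xdI
    rwa [← mul_assoc, mul_assoc _ d, ← (rd n).inv_left.eq, ← mul_assoc] at this
  have o := pow_orderOf_eq_one r
  have opos := orderOf_pos r
  rcases Nat.even_or_odd' (orderOf r) with ⟨m, e | e⟩
  swap
  · exfalso
    rw [e, pow_succ, mul_eq_one_iff_eq_inv] at o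
    have := (cj m).2
    rw [o, ri, mul_assoc y, xx, mul_one] at this
    exact ydI this
  have tt : (r ^ m)⁻¹ = r ^ m := inv_eq_of_mul_eq_one_right (by rw [← pow_add, ← two_mul, ← e, o])
  have tx : r ^ m * x = x * r ^ m := by rw [inv_conj_pow a2, tt]
  have ty : r ^ m * y = y * r ^ m := by rw [inv_conj_pow a3, tt]
  have t1 := h'.cent xI xr tx
  have t2 := h.cent yI yr ty
  rcases Nat.even_or_odd' m with ⟨j, e' | e'⟩
  · exfalso
    have b1 : r ^ j ∈ f'.range := h'.fus x xI xr _ (by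
      rw [conj_refl a2, ← e']; exact mul_mem t1 xr)
    have b2 : r ^ j * x ∈ I := by
      rcases Nat.even_or_odd' j with ⟨i, rfl | rfl⟩
      · exact (cj i).1
      · have := hI (r ^ (i + 1)) _ yI
        rw [conj_refl a3, show 2 * (i + 1) = 2 * i + 1 + 1 by ring, pow_succ, mul_assoc, a4] at this
        exact this
    obtain ⟨a, ha⟩ := mul_mem b1 xr
    have b3 : a ∈ monoGroup := (mem_mono_of_mk1 (g := a) dod1_mem.1 dod1_mem (by
      rw [h'.comm (a := a) (b := eps _ dod1_mem.1) (by rw [ha, hd]; exact ((rd j).mul_left xd).eq),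
        mul_inv_cancel_right])).1
    have b4 : f' (a * eps X hX * (a * eps X hX)) = r ^ m := by
      rw [map_mul, map_mul, ha, ← hx0, mul_assoc (r ^ j), xx, mul_one, ← pow_add, ← two_mul, e']
    rcases lemK2 b3 ((h'.mem a).1 (ha ▸ b2)) (eps_mem_E0 hX) with b5 | b5
    · rw [b5, map_one] at b4
      have := orderOf_le_of_pow_eq_one (by omega) b4.symm
      omega
    · exact dj _ (b4 ▸ (h'.mem _).2 b5) t2 t1
  · have b1 : r ^ m * y = r ^ (2 * j) * x := by rw [e', pow_succ, mul_assoc, a4]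
    obtain ⟨a, ha⟩ := mul_mem t2 yr
    have b2 : f a * d = d * f a := by rw [ha]; exact ((rd m).mul_left yd).eq
    have b3 : Zt a := (h.mem a).1 (by rw [ha, b1]; exact (cj j).1)
    have b4 : Zt (eps _ dod1_mem.1 * a) := (h.mem _).1 (by
      rw [map_mul, ← hd0, ← b2, ha, b1]; exact (cj j).2)
    obtain ⟨C, hC, rfl⟩ := lemK dod1_mem b3 (h.comm b2) b4
    rw [eps_mul_eps, zt_eps] at b4
    rw [zt_eps] at b3
    refine ⟨Y ∆ C, symmDiff_mem_code hY hC, ?_, ?_, ?_⟩
    · rw [← eps_mul_eps hY hC, eps_comm, map_mul, ha, ← hy0, mul_assoc, yy, mul_one]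
      exact t1
    · rwa [symmDiff_symmDiff_cancel_left]
    · rwa [symmDiff_symmDiff_cancel_left, symmDiff_comm]

theorem Pt.cent_d [Finite G] {I : Set G} (hI : ∀ g : G, ∀ u ∈ I, g * u * g⁻¹ ∈ I) {f : Co0 →* G}
    (h : Pt I f) {g : G} (e : g * f (eps _ dod1_mem.1) = f (eps _ dod1_mem.1) * g) :
    g ∈ f.range := by
  classical
  by_contra hg
  have h' := h.conj hI g
  have hd : ((MulAut.conj g).toMonoidHom.comp f) (eps _ dod1_mem.1) = f (eps _ dod1_mem.1) := by
    show g * _ * g⁻¹ = _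
    rw [e, mul_inv_cancel_right]
  have dj : ∀ u ∈ I, u ∈ f.range → u ∉ ((MulAut.conj g).toMonoidHom.comp f).range := by
    rintro u hu hu' ⟨a, rfl⟩
    exact hg (h.fus _ ((h.mem a).2 ((h'.mem a).1 hu)) ⟨a, rfl⟩ g hu')
  let B := codeF.filter fun T => ∃ hT : T ∈ code,
    f (eps T hT) ∈ ((MulAut.conj g).toMonoidHom.comp f).range
  have mB : ∀ {T}, T ∈ B ↔ ∃ hT : T ∈ code,
      f (eps T hT) ∈ ((MulAut.conj g).toMonoidHom.comp f).range := fun {T} => by
    rw [Finset.mem_filter, mem_codeF]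
    exact ⟨fun h => h.2, fun h => ⟨h.1, h⟩⟩
  have hX : isCode 13062145 = true := by decide +kernel
  refine no_cover (B := B) (fun c hc => (mB.1 hc).1) (fun a ha b hb => ?_) (mB.2 ⟨univ_mem_code, ?_⟩)
    (mB.2 ⟨dod1_mem.1, _, hd⟩) (fun c hc hi => ?_) fun Y hY y1 y2 => ?_
  · obtain ⟨ha, a1⟩ := mB.1 ha
    obtain ⟨hb, b1⟩ := mB.1 hb
    exact mB.2 ⟨symmDiff_mem_code ha hb, by rw [← eps_mul_eps ha hb, map_mul]; exact mul_mem a1 b1⟩
  · have : f negCo0 = f 1 := (h.eq_iff _ _).2 (by rw [map_one, mk1_eq_one]; exact Or.inr rfl)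
    show f negCo0 ∈ _
    rw [this, map_one]
    exact one_mem _
  · obtain ⟨hc, c1⟩ := mB.1 hc
    exact dj _ ((h.mem _).2 ((zt_eps hc).2 hi)) ⟨_, rfl⟩ c1
  · obtain ⟨T, hT, a, b⟩ := h.cover hI h' hd dj (ofMask_mem_of_isCode hX) hY
      ((itM_iff _).1 (by decide +kernel)) (by
        rw [← ofMask_xor]; exact (itM_iff _).1 (by decide +kernel)) y1 y2
    exact ⟨T, mB.2 ⟨hT, a⟩, b⟩

theorem not_conj_of_prime (Φ : Spor.Co1 →* G) (hi : Function.Injective Φ) {s t w : Spor.Co1}
    (hs : ∀ g, g * Φ s = Φ s * g → g ∈ Φ.range) {K : Subgroup Spor.Co1}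
    (hK : Subgroup.centralizer {s} ≤ K) {p : ℕ} (hp : ¬ p ∣ Nat.card K) (hw : orderOf w = p)
    (e : w * t = t * w) : ¬ IsConj (Φ s) (Φ t) := by
  intro c
  obtain ⟨k, hk⟩ := isConj_iff.1 c
  obtain ⟨v, hv⟩ := hs (k⁻¹ * Φ w * k) (by
    calc k⁻¹ * Φ w * k * Φ s = k⁻¹ * (Φ w * (k * Φ s * k⁻¹)) * k := by group
      _ = k⁻¹ * ((k * Φ s * k⁻¹) * Φ w) * k := by rw [hk, ← map_mul, e, map_mul]
      _ = _ := by group)
  have h1 : v ∈ K := hK (Subgroup.mem_centralizer_singleton_iff.2 (hi (by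
    rw [map_mul, map_mul, hv]
    calc k⁻¹ * Φ w * k * Φ s = k⁻¹ * (Φ w * (k * Φ s * k⁻¹)) * k := by group
      _ = k⁻¹ * ((k * Φ s * k⁻¹) * Φ w) * k := by rw [hk, ← map_mul, e, map_mul]
      _ = _ := by group)))
  apply hp
  have h2 : orderOf v = p := by
    rw [← hw, ← orderOf_injective Φ hi, ← orderOf_injective Φ hi, hv]
    exact SemiconjBy.orderOf_eq k (by rw [SemiconjBy]; group)
  rw [← h2]
  exact Subgroup.orderOf_dvd_natCard K h1

theorem fus_of_cent (Φ : Spor.Co1 →* G) {s : Spor.Co1}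
    (hs : ∀ g, g * Φ s = Φ s * g → g ∈ Φ.range) (hf : ∀ t, IsConj (Φ s) (Φ t) → IsConj s t)
    {u : G} (hu : IsConj (Φ s) u) (hu' : u ∈ Φ.range) (k : G) (hk : k * u * k⁻¹ ∈ Φ.range) :
    k ∈ Φ.range := by
  obtain ⟨a, rfl⟩ := hu'
  obtain ⟨b, hb⟩ := hk
  obtain ⟨h1, rfl⟩ := isConj_iff.1 (hf a hu)
  obtain ⟨h2, rfl⟩ := isConj_iff.1 (hf b (hu.trans (isConj_iff.2 ⟨k, hb.symm⟩)))
  simp only [map_mul, map_inv] at hb
  have := hs ((Φ h2)⁻¹ * k * Φ h1) (by
    calc (Φ h2)⁻¹ * k * Φ h1 * Φ s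
        = (Φ h2)⁻¹ * (k * (Φ h1 * Φ s * (Φ h1)⁻¹) * k⁻¹) * k * Φ h1 := by group
      _ = _ := by rw [← hb]; group)
  have h3 := mul_mem (mul_mem (Φ.mem_range.2 ⟨h2, rfl⟩) this) (inv_mem (Φ.mem_range.2 ⟨h1, rfl⟩))
  simpa [mul_assoc] using h3

theorem unique_fix {H : Subgroup G} {x y : G} (hx : x ∈ H)
    (h : ∀ k : G, k * x * k⁻¹ ∈ H → k ∈ H) (c : IsConj x y) : ∃! q : G ⧸ H, y • q = q := by
  obtain ⟨g, rfl⟩ := isConj_iff.1 c
  refine ⟨(g : G ⧸ H), QuotientGroup.eq.2 (by simpa [mul_assoc] using hx), fun q hq => ?_⟩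
  obtain ⟨k, rfl⟩ := QuotientGroup.mk_surjective q
  have h1 : ((g * x * g⁻¹ * k : G) : G ⧸ H) = (k : G ⧸ H) := hq
  have h2 := inv_mem (QuotientGroup.eq.1 h1)
  exact QuotientGroup.eq.2 (h _ (by simpa [mul_assoc] using h2))

end

/-- an element of order 13 -/
def P13 : ℕ := 0xe001000100010000e001000120010001000120010001000100010000e000e00120012000e001200140012001000120010000e000e0012001000120014000e0012001000120012000e000e001000100010001000100010000e0010000e00100010000e000e000e0010000e0010000e000e0010000e00120012000e00100010001000100010000c00120010000e00100012001000100010000e0010000e001000100012001000100010000c0012000e000e000e000e00120010000e001000120012001000100014000e0010000e0010001000120010001000100010000e00120012000e0012000e00100012001000120012001000140010000e0010001200100010001200100010001000100012001200120012000e000e0010000e0010000e0012001000100010000e0010001200100010000e000c00100010001000120012000e0012001200120010001200100012001000120012000e001000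120010000e00120010001200120012000e001000100010001000140010001200100012001000100012000e000e001000120010000e00120014000e000e00120012001000100010001000100010000e0010000e0010001000120012000e0010000e0010000e000e001000120012000e0012001000100010001000100010000e0010000e00140012001400100010000e0010001200100010000e0010001000100010000e000e000e000e000e000e001000120010000e00100012000e000e0010001200100012000e00100012000e000e000e00100014001000100010001000120010000e001000120010001000100012001000120014001000120010001000100010000e000e000e00120012000e0010000e0010001200100012001200120014000e0010000e00120010000e000e000e000e00100010001000100010001000120010000e00100012001000100010000e0010000e00100010000e0010001000100010000e000e00120012001200120010000e000c000e00100012000e00120010000e0010000e000e00100012000e0012000e001000100010001400100010000e00100012001000100012000e00120010000e0010001200120010001200120012001200140010001000100010001000120010000e0010000e001000100010000e001000120010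0010000e0010000c001000100012000e0012000e0012000e0010000e00100012000e001000100010000e0010000e00100010001200100010000c00100012000e000e00120012000e001000120010000e001200100010001000120014000e00100010000e00100010001000100012000e00120012000e000e00100012001000120010000e0012000e0010000e00100012001200100012000e0012000e001000100010001000100010000e0014000e0010000c0012001200120010001200100012000e0010000e00120012000e001000100010001000100010000e0010000e001000100012000e000e0010000e0010001200120010000e0012000e000e001000100014001000100010000e00100012001000120010001000100012001000120010000c001200100010001000100012000e0012000e00120012001000120010000e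

theorem exists_13 : ∃ w : Spor.Co1, orderOf w = 13 ∧ w * mk1 eB = mk1 eB * w := by
  have h := isM_el (P := P13) (by decide +kernel)
  have := Fact.mk (show Nat.Prime 13 by norm_num)
  refine ⟨mk1 (el P13), orderOf_mk1 (by norm_num) (by norm_num) (orderOf_eq_prime ?_ ?_), ?_⟩
  · refine (h.isR.pow 13).eq_el ?_
    rw [show powR (matR P13) 13 = oneM by decide +kernel]
    exact isM_one
  · exact h.ne_el isM_one (by decide +kernel)
  · rw [← map_mul, ← map_mul]
    refine congrArg mk1 ((h.mul isM_eB).eq_el ?_)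
    rw [show mulM P13 (mulM (epsM 331518) (permM H96.Geo.M24.c2B)) =
      mulM (mulM (epsM 331518) (permM H96.Geo.M24.c2B)) P13 by decide +kernel]
    exact isM_eB.mul h

theorem exists_11 : ∃ w : Spor.Co1, orderOf w = 11 ∧
    w * mk1 (eps _ squareDodecad_mem.1) = mk1 (eps _ squareDodecad_mem.1) * w := by
  refine ⟨mk1 h11, orderOf_mk1 (by norm_num) (by norm_num) orderOf_h11, ?_⟩
  rw [← map_mul, ← map_mul, h11, permHom_mul_eps]
  congr 2
  refine eps_congr ?_
  show permOf betaC • _ = _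
  rw [squareDodecad_eq, permOf_smul (okP_of_inM24 inM24_betaC)]
  exact congrArg ofMask (by decide +kernel)

theorem isConj_dodecad {D D' : Finset GolayPt} (hD : D ∈ dodecads) (hD' : D' ∈ dodecads) :
    IsConj (mk1 (eps D hD.1)) (mk1 (eps D' hD'.1)) := by
  obtain ⟨σ, hσ, e⟩ := M24_trans_dodecads hD hD'
  exact isConj_mk1 (g := permHom ⟨σ, hσ⟩) (Or.inl (by rw [conj_eps]; exact eps_congr e))

theorem surj_of_cent (h11 : ¬ 11 ∣ Nat.card H0) (h13 : ¬ 13 ∣ Nat.card H0)
    {G : Type*} [Group G] [Finite G] (Φ : Spor.Co1 →* G) (hi : Function.Injective Φ)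
    (hC : ∀ g, g * Φ z0 = Φ z0 * g → g ∈ Φ.range) : Function.Surjective Φ := by
  obtain ⟨w11, o11, c11⟩ := exists_11
  obtain ⟨w13, o13, c13⟩ := exists_13
  have zd : ¬ IsConj (Φ z0) (Φ (mk1 (eps _ dod1_mem.1))) := fun c =>
    not_conj_of_prime Φ hi hC le_rfl h11 o11 c11
      (c.trans (Φ.map_isConj (isConj_dodecad dod1_mem squareDodecad_mem)))
  have zb : ¬ IsConj (Φ z0) (Φ (mk1 eB)) := not_conj_of_prime Φ hi hC le_rfl h13 o13 c13
  have ord : ∀ {s t : Spor.Co1}, orderOf s = 2 → IsConj (Φ s) (Φ t) → orderOf t = 2 := by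
    intro s t hs c
    obtain ⟨k, hk⟩ := isConj_iff.1 c
    rw [← hs, ← orderOf_injective Φ hi, ← orderOf_injective Φ hi, ← hk]
    exact (SemiconjBy.orderOf_eq k (by rw [SemiconjBy]; group)).symm
  have cls : ∀ {t : Spor.Co1}, orderOf t = 2 →
      IsConj t z0 ∨ IsConj t (mk1 (eps _ dod1_mem.1)) ∨ IsConj t (mk1 eB) := fun ht =>
    z0_eq ▸ inv_classes oct0_mem dod1_mem ht
  have fz : ∀ t, IsConj (Φ z0) (Φ t) → IsConj z0 t := fun t c => by
    rcases cls (ord orderOf_z0 c) with e | e | e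
    · exact e.symm
    · exact absurd (c.trans (Φ.map_isConj e)) zd
    · exact absurd (c.trans (Φ.map_isConj e)) zb
  have rg : (Φ.comp mk1).range = Φ.range := by
    rw [MonoidHom.range_comp, MonoidHom.range_eq_top.2 mk1_surj, ← MonoidHom.range_eq_map]
  have hI : ∀ g : G, ∀ u ∈ {u | IsConj (Φ z0) u}, g * u * g⁻¹ ∈ {u | IsConj (Φ z0) u} :=
    fun g u hu => IsConj.trans hu (isConj_iff.2 ⟨g, rfl⟩)
  have P : Pt {u | IsConj (Φ z0) u} (Φ.comp mk1) :=
    ⟨fun a b => hi.eq_iff, fun a => ⟨fun c => (fz _ c).symm, fun c => Φ.map_isConj c.symm⟩,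
      fun u hu => rg ▸ fus_of_cent Φ hC fz hu⟩
  have hD : ∀ g, g * Φ (mk1 (eps _ dod1_mem.1)) = Φ (mk1 (eps _ dod1_mem.1)) * g → g ∈ Φ.range :=
    fun g e => rg ▸ P.cent_d hI e
  have db : ¬ IsConj (Φ (mk1 (eps _ dod1_mem.1))) (Φ (mk1 eB)) :=
    not_conj_of_prime Φ hi hD (cent_dodecad_le dod1_mem) (by rw [cov_mk1.card_M]; norm_num) o13 c13
  have fd : ∀ t, IsConj (Φ (mk1 (eps _ dod1_mem.1))) (Φ t) → IsConj (mk1 (eps _ dod1_mem.1)) t :=
    fun t c => by
      rcases cls (ord (orderOf_dodecad dod1_mem) c) with e | e | e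
      · exact absurd (c.trans (Φ.map_isConj e)).symm zd
      · exact e.symm
      · exact absurd (c.trans (Φ.map_isConj e)) db
  have cen : ∀ {s t : Spor.Co1}, (∀ g, g * Φ s = Φ s * g → g ∈ Φ.range) → IsConj t s →
      Subgroup.centralizer {Φ t} ≤ Φ.range := by
    intro s t hs c g hg
    obtain ⟨k, rfl⟩ := isConj_iff.1 c
    have e := Subgroup.mem_centralizer_singleton_iff.1 hg
    have := hs (Φ k * g * (Φ k)⁻¹) (by
      simp only [map_mul, map_inv]
      calc Φ k * g * (Φ k)⁻¹ * (Φ k * Φ t * (Φ k)⁻¹) = Φ k * (g * Φ t) * (Φ k)⁻¹ := by group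
        _ = _ := by rw [e]; group)
    have h3 := mul_mem (mul_mem (inv_mem (Φ.mem_range.2 ⟨k, rfl⟩)) this) (Φ.mem_range.2 ⟨k, rfl⟩)
    simpa [mul_assoc] using h3
  rw [← MonoidHom.range_eq_top]
  refine Cfsg.Agent.S5439.result _ _ (Φ z0) (Φ (mk1 (eps _ dod1_mem.1)))
    ((orderOf_injective Φ hi _).trans orderOf_z0)
    ((orderOf_injective Φ hi _).trans (orderOf_dodecad dod1_mem)) rfl rfl (fun e => zd ?_) _ ?_ ?_
  · exact (e.symm ▸ IsConj.refl _ : Φ (mk1 (eps _ dod1_mem.1)) ∈ {x | IsConj (Φ z0) x})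
  · rintro x (hx | hx)
    · exact unique_fix ⟨_, rfl⟩ (fus_of_cent Φ hC fz (IsConj.refl _) ⟨_, rfl⟩) hx
    · exact unique_fix ⟨_, rfl⟩ (fus_of_cent Φ hD fd (IsConj.refl _) ⟨_, rfl⟩) hx
  · rintro _ ha ⟨a, rfl⟩ _ hb ⟨b, rfl⟩ hne hc
    obtain ⟨a, rfl⟩ := mk1_surj a
    obtain ⟨b, rfl⟩ := mk1_surj b
    obtain ⟨a1, a2⟩ := Zt.spec (a := a) (fz _ ha).symm
    have b1 : b * b = 1 := by
      rcases hb with hb | hb
      · exact (Zt.spec (a := b) (fz _ hb).symm).1
      · obtain ⟨g, e⟩ := exists_conj_of_isConj (fd _ hb)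
        have : g * eps _ dod1_mem.1 * g⁻¹ * (g * eps _ dod1_mem.1 * g⁻¹) = 1 := by
          rw [show ∀ x : Co0, g * x * g⁻¹ * (g * x * g⁻¹) = g * (x * x) * g⁻¹ from
            fun x => by group, eps_mul_self]; group
        rcases e with e | e <;> rw [e] at this
        · exact this
        · rwa [neg_mul_sq] at this
    rw [← map_mul Φ, ← map_mul Φ, hi.eq_iff, ← map_mul, ← map_mul, mk1_eq_iff] at hc
    have c1 : a * b = b * a := hc.resolve_right fun e => by
      have := tr_conj b⁻¹ a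
      rw [inv_inv, mul_assoc, e, ← mul_assoc, neg_comm, mul_assoc, inv_mul_cancel_left, tr_neg] at this
      omega
    have c2 : a * b * (a * b) = 1 := by
      rw [mul_assoc, ← mul_assoc b, ← c1, mul_assoc, b1, mul_one, a1]
    have c3 : orderOf (mk1 (a * b)) = 2 := orderOf_mk1_eq_two (Or.inl c2) fun e => hne (by
      rw [map_mul, mul_eq_one_iff_eq_inv, ← map_inv, inv_eq_of_mul_eq_one_right b1] at e
      rw [e])
    rw [← map_mul, ← map_mul]
    rcases cls c3 with e | e | e
    · exact cen hC e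
    · exact cen hD e
    · exact absurd e (not_isConj_eB c2)

theorem eqns_Final : True := by
  have := @P13.eq_1
  exact True.intro

end H74.Co1
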