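import Cfsg.Agent.Lib.CosetEnum.Pres

/-! Coset enumerations for the rotation subgroups of the Weyl groups A4, D5, E6, E7 and E8 modulo its centre. -/

set_option autoImplicit false
set_option maxRecDepth 100000
namespace H16.SW3
open H54 (Tr force band)
open H18.TC
noncomputable def T_0 : Tr := (.node (nat_lit 3) (.node (nat_lit 1) (.node (nat_lit 0) (.leaf (nat_lit 0x7000011f462f2ac000000009b110d42fd007000009f88321ecc00e000073407f83b5007000005fc5b614dc00e00004b803fc33900000000ae823b01fc00000001bc04f40be)) (.leaf (nat_lit 0x90892a329e001c00009795c915a5003800024a47fa429800000010273ea077a00700001bec8a938a80000000a2b0fe437b00380001abc57c30b00000000bad2cb84fc))) (.node (nat_lit 2) (.leaf (nat_lit 0x380006458f73445c00e00008f221d141800000009c64f1c37d001c00009f55e69d9b00000003a70d202fd801c0000b776e7679e0038000687caf7328000e000067617e0da1)) (.leaf (nat_lit 0x9834cec31b80000001e0e4e44d6f00700008fc250fac4001c00011e649c1311003800060696f1667c00000023925a4d5710000000488d19741c801c0000ff38652915))))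 (.node (nat_lit 5) (.node (nat_lit 4) (.leaf (nat_lit 0x584d5094fa400e00026ea9936c8700380005f9176b62580000001f887a39d6b007000039b0eea522400e0001bcc6db5c8a0000000a65688b9db400000019ee6a31964)) (.leaf (nat_lit 0xad16c07ab880000001d0a4d852e300380008d962c4aa1401c00015d85995b0c0070000831a1678810000000295ea8168e7000000063a20866168000000248f45990e8))) (.node (nat_lit 6) (.leaf (nat_lit 0x380007d6decaa02c0000002284536145c00000007345f0871740000002d07a17a7c800380007075a5f6b4c00000025e09a6654f00700007785e5b801801c0002457938a58d)) (.leaf (nat_lit 0x8926312875000e0002b90a756a52000000084520567f3800e0002ccbaf42c59)))))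
noncomputable def J_0 : Tr := (.node (nat_lit 3) (.node (nat_lit 1) (.node (nat_lit 0) (.leaf (nat_lit 0x40040000000000000001001000400400000000000020020000004004000000000000200200000000000010010000000000000)) (.leaf (nat_lit 0x10010004004000000000000200200000000000010010004004000000000000000300100000020020000000000001001))) (.node (nat_lit 2) (.leaf (nat_lit 0x20020000000006002000000000000100100040040000000000000001001000400400000000000020020000000006002000)) (.leaf (nat_lit 0x30010000000001001000400400000000040040040000000002002000000000000100100000000010010004004000000)))) (.node (nat_lit 5) (.node (nat_lit 4) (.leaf (nat_lit 0x10010000006002000000000600200000000000010010004004004000000000600200000000000010010000008001001)) (.leaf (nat_lit 0x80010010000000003001000000600200000040040040000004004006000000000800100100000080010010000000003001))) (.node (nat_lit 6) (.leaf (nat_lit 0x60020000000000003001000000800100100000000030010000002002001000000800100100040040040000004004006000))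 (.leaf (nat_lit 0x8001001000000200200100000000030010000006002001)))))
noncomputable def F_0 : Tr := (.node (nat_lit 0) (.leaf (nat_lit 0xaedc66d238b7b30e7275ceb3ed89575b8a54db549b450bee80e36aa272e42617de1da6455444c33c230a206001)) (.node (nat_lit 1) (.leaf (nat_lit 0xb6aa6fd67de182691de1eeda63ae59db2531552d334eec0f3aca2b30b8e57e220771b1575860d140a341240102)) (.leaf (nat_lit 0xdafaf493bbb889f7a8eb56a7e615f0b156f74f3a91cb13d996d70ca4d98a8c880974659811441208e04b007143))))
noncomputable def T : Tr := T_0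
noncomputable def J : Tr := J_0
noncomputable def F : Tr := F_0
noncomputable def row (u : ℕ) : ℕ := Nat.land (Nat.shiftRight (force (Nat.shiftRight u (nat_lit 3)) T.get) (Nat.mul (Nat.land u (nat_lit 7)) (nat_lit 70))) (nat_lit 0x3fffffffffffffffff)
noncomputable def jrow (u : ℕ) : ℕ := Nat.land (Nat.shiftRight (force (Nat.shiftRight u (nat_lit 3)) J.get) (Nat.mul (Nat.land u (nat_lit 7)) (nat_lit 52))) (nat_lit 0xfffffffffffff)
noncomputable def fget (k fx : ℕ) : ℕ := F.get (Nat.add k fx)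
noncomputable def wt0 : LT := (.node (nat_lit 0) (.leaf 1 0 [nat_lit 14, nat_lit 0, nat_lit 14, nat_lit 0, nat_lit 14])
(.leaf 0 0 []))
noncomputable def wt1 : LT := (.node (nat_lit 2) (.node (nat_lit 0) (.leaf 1 5 [nat_lit 0, nat_lit 14, nat_lit 0, nat_lit 14, nat_lit 0])
(.node (nat_lit 1) (.leaf 3 8 [nat_lit 28, nat_lit 0, nat_lit 14, nat_lit 28, nat_lit 0, nat_lit 14, nat_lit 28, nat_lit 0])
(.leaf 5 0 [nat_lit 28, nat_lit 14, nat_lit 28, nat_lit 14, nat_lit 28])))
(.leaf 0 0 []))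
noncomputable def wt2 : LT := (.node (nat_lit 1) (.node (nat_lit 0) (.leaf 5 5 [nat_lit 14, nat_lit 28, nat_lit 14, nat_lit 28, nat_lit 14])
(.leaf 3 0 [nat_lit 0, nat_lit 14, nat_lit 28, nat_lit 0, nat_lit 14, nat_lit 28, nat_lit 0, nat_lit 14]))
(.leaf 0 0 []))
noncomputable def wt3 : LT := (.leaf 0 0 [])
noncomputable def sl : List (ℕ × ℕ × List ℕ × List ℕ) := []
/-- the inverse column -/
noncomputable def icol (x : ℕ) : ℕ := x
noncomputable def inv (x : ℕ) : ℕ := x
def cols : List ℕ := [nat_lit 42, nat_lit 0, nat_lit 14, nat_lit 28]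
noncomputable def cl : CL := (.cons (nat_lit 0) (nat_lit 0) (nat_lit 0) (nat_lit 0) wt0
(.cons (nat_lit 14) (nat_lit 14) (nat_lit 13) (nat_lit 1) wt1
(.cons (nat_lit 28) (nat_lit 28) (nat_lit 26) (nat_lit 2) wt2
.nil)))
def rels : List (List ℕ) := [[0, 1, 0, 1, 0, 1],
[2, 1, 0, 2, 1, 0, 2, 1, 0],
[1, 2, 1, 2, 1, 2]]
def subs : List (List ℕ) := []
noncomputable def chk : ℕ → Bool := rowChk row jrow fget sl cols (nat_lit 60) (nat_lit 60) (nat_lit 16383) (nat_lit 63) (nat_lit 16384) (nat_lit 42) (nat_lit 56) (nat_lit 8191) (nat_lit 6) (nat_lit 63) (nat_lit 6) (nat_lit 63) cl (nat_lit 39) wt3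
theorem p0 : allB chk 6 0 = true := by decide +kernel
theorem all_chk : AllLt chk 60 := by
  have h := AllLt.zero chk
  have h := h.step 60 p0 (by decide +kernel)
  exact h
/-- column `x` of the final table -/
noncomputable def tab (x u : ℕ) : ℕ := ft fget (nat_lit 6) (nat_lit 63) (nat_lit 6) (nat_lit 63) (Nat.mul x (nat_lit 1)) u
theorem enum {G Ω : Type*} [Group G] [MulAction G Ω] (g : ℕ → G) (ω : Ω)
    (hinv : ∀ x, g (icol x) = (g x)⁻¹) (h1 : g 3 = 1)
    (hrels : ∀ R ∈ rels, ev g R = 1) (hsubs : ∀ S ∈ subs, ev g S • ω = ω) :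
    ∃ pt : ℕ → Ω, pt 0 = ω ∧ (∀ K : Subgroup G, (∀ x, g x ∈ K) → ∀ v, ∃ k ∈ K, pt v = k • ω) ∧
      ∀ x, x < 3 → ∀ u, u < 60 → tab x u < 60 ∧ g x • pt u = pt (tab x u) :=
  sound_scaled g ω row jrow fget sl inv icol cols (nat_lit 60) (nat_lit 60) (nat_lit 16383) (nat_lit 63) (nat_lit 16384) (nat_lit 42) (nat_lit 56) (nat_lit 8191) (nat_lit 6) (nat_lit 63) (nat_lit 6) (nat_lit 63) 6 cl (nat_lit 39) wt3 rels subs 14 (nat_lit 1) 3
    (fun _ => rfl) hinv h1 hrels hsubs
    (by decide +kernel) (by decide +kernel) all_chk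
universe u in
theorem isEnum : IsEnum.{u} 3 60 rels subs tab := fun _ _ _ _ g ω => enum g ω
end H16.SW3
namespace H16.SW4
open H54 (Tr force band)
open H18.TC
noncomputable def T_0 : Tr := (.node (nat_lit 0) (.leaf (nat_lit 0xc00037c4553373ba0180005743fc4954f600c0002d731723c3d800c0001fb21b1bd29700000039841925a17d01800015d11e1db19c02400009f13d0de0fe0000000be07f05f03f)) (.leaf (nat_lit 0xc0007b07d07717f10180007517137908100240005956345d46930000006b67316f36720240005596525f26140180005b24384794b50000006d35365164d90000002ba2fa35827b)))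
noncomputable def J_0 : Tr := (.node (nat_lit 0) (.leaf (nat_lit 0x400100100180000010010000000000000000400400000000080060020000000000000000800800000500100000000010010000004002000000405a01d006)) (.leaf (nat_lit 0x40030010010000005001000000000100100180040000000018000005001000400400000000080000010010018008000000001000a0020000018008001001)))
noncomputable def F_0 : Tr := (.node (nat_lit 1) (.node (nat_lit 0) (.leaf (nat_lit 0xefcdba6459782310)) (.leaf (nat_lit 0xefbcd6978a325410))) (.node (nat_lit 2) (.leaf (nat_lit 0xfcbed795a3846120)) (.leaf (nat_lit 0xfea96dc53b847201))))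
noncomputable def T : Tr := T_0
noncomputable def J : Tr := J_0
noncomputable def F : Tr := F_0
noncomputable def row (u : ℕ) : ℕ := Nat.land (Nat.shiftRight (force (Nat.shiftRight u (nat_lit 3)) T.get) (Nat.mul (Nat.land u (nat_lit 7)) (nat_lit 72))) (nat_lit 0xffffffffffffffffff)
noncomputable def jrow (u : ℕ) : ℕ := Nat.land (Nat.shiftRight (force (Nat.shiftRight u (nat_lit 3)) J.get) (Nat.mul (Nat.land u (nat_lit 7)) (nat_lit 65))) (nat_lit 0x1ffffffffffffffff)
noncomputable def fget (k fx : ℕ) : ℕ := F.get (Nat.add k fx)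
noncomputable def wt0 : LT := (.node (nat_lit 2) (.node (nat_lit 0) (.leaf 3 4 [nat_lit 12, nat_lit 36, nat_lit 0, nat_lit 12, nat_lit 36])
(.node (nat_lit 1) (.leaf 7 7 [nat_lit 12, nat_lit 24, nat_lit 0, nat_lit 12, nat_lit 24, nat_lit 0, nat_lit 12, nat_lit 24])
(.leaf 5 0 [nat_lit 12, nat_lit 0, nat_lit 12, nat_lit 0, nat_lit 12])))
(.leaf 0 0 []))
noncomputable def wt1 : LT := (.node (nat_lit 2) (.node (nat_lit 0) (.leaf 1 0 [nat_lit 36, nat_lit 12, nat_lit 36])
(.node (nat_lit 1) (.leaf 5 5 [nat_lit 0, nat_lit 12, nat_lit 0, nat_lit 12, nat_lit 0])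
(.leaf 9 0 [nat_lit 24, nat_lit 12, nat_lit 24, nat_lit 12, nat_lit 24])))
(.leaf 0 0 []))
noncomputable def wt2 : LT := (.node (nat_lit 2) (.node (nat_lit 0) (.leaf 9 5 [nat_lit 12, nat_lit 24, nat_lit 12, nat_lit 24, nat_lit 12])
(.node (nat_lit 1) (.leaf 7 0 [nat_lit 0, nat_lit 12, nat_lit 24, nat_lit 0, nat_lit 12, nat_lit 24, nat_lit 0, nat_lit 12])
(.leaf 11 5 [nat_lit 36, nat_lit 24, nat_lit 36, nat_lit 24, nat_lit 36])))
(.leaf 0 0 []))
noncomputable def wt3 : LT := (.node (nat_lit 1) (.node (nat_lit 0) (.leaf 1 3 [nat_lit 12, nat_lit 36, nat_lit 12])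
(.leaf 11 0 [nat_lit 24, nat_lit 36, nat_lit 24, nat_lit 36, nat_lit 24]))
(.node (nat_lit 2) (.leaf 3 0 [nat_lit 0, nat_lit 12, nat_lit 36, nat_lit 0, nat_lit 12])
(.leaf 0 0 [])))
noncomputable def wt4 : LT := (.leaf 0 0 [])
noncomputable def sl : List (ℕ × ℕ × List ℕ × List ℕ) := [(0, nat_lit 0, [], []),
(2, nat_lit 12, [], []),
(4, nat_lit 24, [], [])]
/-- the inverse column -/
noncomputable def icol (x : ℕ) : ℕ := x
noncomputable def inv (x : ℕ) : ℕ := x
def cols : List ℕ := [nat_lit 48, nat_lit 0, nat_lit 12, nat_lit 24, nat_lit 36]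
noncomputable def cl : CL := (.cons (nat_lit 0) (nat_lit 0) (nat_lit 0) (nat_lit 0) wt0
(.cons (nat_lit 12) (nat_lit 12) (nat_lit 13) (nat_lit 1) wt1
(.cons (nat_lit 24) (nat_lit 24) (nat_lit 26) (nat_lit 2) wt2
(.cons (nat_lit 36) (nat_lit 36) (nat_lit 39) (nat_lit 3) wt3
.nil))))
def rels : List (List ℕ) := [[1, 3, 1, 3],
[3, 1, 0, 3, 1, 0],
[0, 1, 0, 1, 0, 1],
[2, 1, 0, 2, 1, 0, 2, 1, 0],
[1, 2, 1, 2, 1, 2],
[3, 2, 3, 2, 3, 2]]
def subs : List (List ℕ) := [[0],
[1],
[2]]
noncomputable def chk : ℕ → Bool := rowChk row jrow fget sl cols (nat_lit 16) (nat_lit 16) (nat_lit 4095) (nat_lit 31) (nat_lit 4096) (nat_lit 48) (nat_lit 60) (nat_lit 8191) (nat_lit 6) (nat_lit 63) (nat_lit 4) (nat_lit 15) cl (nat_lit 52) wt4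
theorem p0 : allB chk 4 0 = true := by decide +kernel
theorem all_chk : AllLt chk 16 := by
  have h := AllLt.zero chk
  have h := h.step 16 p0 (by decide +kernel)
  exact h
/-- column `x` of the final table -/
noncomputable def tab (x u : ℕ) : ℕ := ft fget (nat_lit 6) (nat_lit 63) (nat_lit 4) (nat_lit 15) (Nat.mul x (nat_lit 1)) u
theorem enum {G Ω : Type*} [Group G] [MulAction G Ω] (g : ℕ → G) (ω : Ω)
    (hinv : ∀ x, g (icol x) = (g x)⁻¹) (h1 : g 4 = 1)
    (hrels : ∀ R ∈ rels, ev g R = 1) (hsubs : ∀ S ∈ subs, ev g S • ω = ω) :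
    ∃ pt : ℕ → Ω, pt 0 = ω ∧ (∀ K : Subgroup G, (∀ x, g x ∈ K) → ∀ v, ∃ k ∈ K, pt v = k • ω) ∧
      ∀ x, x < 4 → ∀ u, u < 16 → tab x u < 16 ∧ g x • pt u = pt (tab x u) :=
  sound_scaled g ω row jrow fget sl inv icol cols (nat_lit 16) (nat_lit 16) (nat_lit 4095) (nat_lit 31) (nat_lit 4096) (nat_lit 48) (nat_lit 60) (nat_lit 8191) (nat_lit 6) (nat_lit 63) (nat_lit 4) (nat_lit 15) 5 cl (nat_lit 52) wt4 rels subs 12 (nat_lit 1) 4
    (fun _ => rfl) hinv h1 hrels hsubs
    (by decide +kernel) (by decide +kernel) all_chk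
universe u in
theorem isEnum : IsEnum.{u} 4 16 rels subs tab := fun _ _ _ _ g ω => enum g ω
end H16.SW4
namespace H16.SW5
open H54 (Tr force band)
open H18.TC
noncomputable def T_0 : Tr := (.node (nat_lit 1) (.node (nat_lit 0) (.leaf (nat_lit 0xd0000c687732cd99d0daa00d00010d87ec4761ad95dc01a00018d0be86742bc1db000000053727b96e06f227c00d000047825c0fe8b6853602700007742bc21c0ce86f406800005f85f423c0fe09f00000000de04f81fc0be03f)) (.leaf (nat_lit 0x1a0001226a2d4f6a6b551c02700025b4f288333e9a24800000056722d569e8f2438809c0009303ac2144fe281300d0000c307b12eb9960d280000001cd51a471537a9ae000000020c8f648b24b71cd003400051b26d97d092c559))) (.node (nat_lit 2) (.leaf (nat_lit 0x68001d50e6a793b8a5d920270003825b56de97243ba001a0006863a21b14ccb6a58068000c8f6e4b1399d4d6a0068001a54bcc5f62e3d81e03400025454209d04c829340000005592c398d6aee5380068000cab5b7acc9758c2c)) (.leaf (nat_lit 0x1a000431a10cfe68134394000000852c19600b0457d38068000f477c3bc21ecefc6))))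
noncomputable def J_0 : Tr := (.node (nat_lit 1) (.node (nat_lit 0) (.leaf (nat_lit 0x1001000000000000000000020020000000008002001800800000000000000000010010000004007001000000000000480080000060020004004000002001000400000080f405a01d006)) (.leaf (nat_lit 0x4004000000000000000000080080100060000000000004000000c004000000800800000000200000040010010020010000003000000c003001000000c00400300040040000020008002002003))) (.node (nat_lit 2) (.leaf (nat_lit 0x800200080080080000048008010000000000000800000180080040000010004004000000000000000200180080100010010020008004001000000c004000000c004000000001c004000000)) (.leaf (nat_lit 0x400400a003000000c0040000004004000001001c004008000))))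
noncomputable def F_0 : Tr := (.node (nat_lit 1) (.node (nat_lit 0) (.leaf (nat_lit 0x6b19b5e95849f38b5cc59ca65212320820)) (.leaf (nat_lit 0x6758b5e9583e33931ae3a9095906628820))) (.node (nat_lit 2) (.leaf (nat_lit 0x6757c5ab19be8d9320e428cb224a710c20)) (.node (nat_lit 3) (.leaf (nat_lit 0x6758ad2f69be3092d47734c4624a818440)) (.leaf (nat_lit 0x6758bda70ab9b464a2f3a8c45a4a818801)))))
noncomputable def T : Tr := T_0
noncomputable def J : Tr := J_0
noncomputable def F : Tr := F_0
noncomputable def row (u : ℕ) : ℕ := Nat.land (Nat.shiftRight (force (Nat.shiftRight u (nat_lit 3)) T.get) (Nat.mul (Nat.land u (nat_lit 7)) (nat_lit 91))) (nat_lit 0x7ffffffffffffffffffffff)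
noncomputable def jrow (u : ℕ) : ℕ := Nat.land (Nat.shiftRight (force (Nat.shiftRight u (nat_lit 3)) J.get) (Nat.mul (Nat.land u (nat_lit 7)) (nat_lit 78))) (nat_lit 0x3fffffffffffffffffff)
noncomputable def fget (k fx : ℕ) : ℕ := F.get (Nat.add k fx)
noncomputable def wt0 : LT := (.node (nat_lit 2) (.node (nat_lit 0) (.leaf 9 4 [nat_lit 13, nat_lit 52, nat_lit 0, nat_lit 13, nat_lit 52])
(.node (nat_lit 1) (.leaf 7 4 [nat_lit 13, nat_lit 39, nat_lit 0, nat_lit 13, nat_lit 39])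
(.leaf 11 0 [nat_lit 13, nat_lit 0, nat_lit 13, nat_lit 0, nat_lit 13])))
(.node (nat_lit 3) (.leaf 13 7 [nat_lit 13, nat_lit 26, nat_lit 0, nat_lit 13, nat_lit 26, nat_lit 0, nat_lit 13, nat_lit 26])
(.leaf 0 0 [])))
noncomputable def wt1 : LT := (.node (nat_lit 3) (.node (nat_lit 1) (.node (nat_lit 0) (.leaf 11 5 [nat_lit 0, nat_lit 13, nat_lit 0, nat_lit 13, nat_lit 0])
(.leaf 3 0 [nat_lit 52, nat_lit 13, nat_lit 52]))
(.node (nat_lit 2) (.leaf 1 0 [nat_lit 39, nat_lit 13, nat_lit 39])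
(.leaf 15 0 [nat_lit 26, nat_lit 13, nat_lit 26, nat_lit 13, nat_lit 26])))
(.node (nat_lit 4) (.leaf 13 8 [nat_lit 26, nat_lit 0, nat_lit 13, nat_lit 26, nat_lit 0, nat_lit 13, nat_lit 26, nat_lit 0])
(.leaf 0 0 [])))
noncomputable def wt2 : LT := (.node (nat_lit 3) (.node (nat_lit 1) (.node (nat_lit 0) (.leaf 15 5 [nat_lit 13, nat_lit 26, nat_lit 13, nat_lit 26, nat_lit 13])
(.leaf 5 0 [nat_lit 52, nat_lit 26, nat_lit 52]))
(.node (nat_lit 2) (.leaf 13 0 [nat_lit 0, nat_lit 13, nat_lit 26, nat_lit 0, nat_lit 13, nat_lit 26, nat_lit 0, nat_lit 13])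
(.leaf 17 5 [nat_lit 39, nat_lit 26, nat_lit 39, nat_lit 26, nat_lit 39])))
(.leaf 0 0 []))
noncomputable def wt3 : LT := (.node (nat_lit 1) (.node (nat_lit 0) (.leaf 1 3 [nat_lit 13, nat_lit 39, nat_lit 13])
(.leaf 7 0 [nat_lit 0, nat_lit 13, nat_lit 39, nat_lit 0, nat_lit 13]))
(.node (nat_lit 3) (.node (nat_lit 2) (.leaf 17 0 [nat_lit 26, nat_lit 39, nat_lit 26, nat_lit 39, nat_lit 26])
(.leaf 19 5 [nat_lit 52, nat_lit 39, nat_lit 52, nat_lit 39, nat_lit 52]))
(.leaf 0 0 [])))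
noncomputable def wt4 : LT := (.node (nat_lit 1) (.node (nat_lit 0) (.leaf 5 3 [nat_lit 26, nat_lit 52, nat_lit 26])
(.leaf 3 3 [nat_lit 13, nat_lit 52, nat_lit 13]))
(.node (nat_lit 2) (.leaf 9 0 [nat_lit 0, nat_lit 13, nat_lit 52, nat_lit 0, nat_lit 13])
(.node (nat_lit 3) (.leaf 19 0 [nat_lit 39, nat_lit 52, nat_lit 39, nat_lit 52, nat_lit 39])
(.leaf 0 0 []))))
noncomputable def wt5 : LT := (.leaf 0 0 [])
noncomputable def sl : List (ℕ × ℕ × List ℕ × List ℕ) := [(0, nat_lit 0, [], []),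
(2, nat_lit 13, [], []),
(4, nat_lit 26, [], []),
(6, nat_lit 39, [], [])]
/-- the inverse column -/
noncomputable def icol (x : ℕ) : ℕ := x
noncomputable def inv (x : ℕ) : ℕ := x
def cols : List ℕ := [nat_lit 65, nat_lit 0, nat_lit 13, nat_lit 26, nat_lit 39, nat_lit 52]
noncomputable def cl : CL := (.cons (nat_lit 0) (nat_lit 0) (nat_lit 0) (nat_lit 0) wt0
(.cons (nat_lit 13) (nat_lit 13) (nat_lit 13) (nat_lit 1) wt1
(.cons (nat_lit 26) (nat_lit 26) (nat_lit 26) (nat_lit 2) wt2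
(.cons (nat_lit 39) (nat_lit 39) (nat_lit 39) (nat_lit 3) wt3
(.cons (nat_lit 52) (nat_lit 52) (nat_lit 52) (nat_lit 4) wt4
.nil)))))
def rels : List (List ℕ) := [[1, 3, 1, 3],
[1, 4, 1, 4],
[2, 4, 2, 4],
[3, 1, 0, 3, 1, 0],
[4, 1, 0, 4, 1, 0],
[0, 1, 0, 1, 0, 1],
[2, 1, 0, 2, 1, 0, 2, 1, 0],
[1, 2, 1, 2, 1, 2],
[3, 2, 3, 2, 3, 2],
[4, 3, 4, 3, 4, 3]]
def subs : List (List ℕ) := [[0],
[1],
[2],
[3]]
noncomputable def chk : ℕ → Bool := rowChk row jrow fget sl cols (nat_lit 27) (nat_lit 27) (nat_lit 8191) (nat_lit 31) (nat_lit 8192) (nat_lit 65) (nat_lit 78) (nat_lit 8191) (nat_lit 6) (nat_lit 63) (nat_lit 5) (nat_lit 31) cl (nat_lit 65) wt5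
theorem p0 : allB chk 5 0 = true := by decide +kernel
theorem all_chk : AllLt chk 27 := by
  have h := AllLt.zero chk
  have h := h.step 27 p0 (by decide +kernel)
  exact h
/-- column `x` of the final table -/
noncomputable def tab (x u : ℕ) : ℕ := ft fget (nat_lit 6) (nat_lit 63) (nat_lit 5) (nat_lit 31) (Nat.mul x (nat_lit 1)) u
theorem enum {G Ω : Type*} [Group G] [MulAction G Ω] (g : ℕ → G) (ω : Ω)
    (hinv : ∀ x, g (icol x) = (g x)⁻¹) (h1 : g 5 = 1)
    (hrels : ∀ R ∈ rels, ev g R = 1) (hsubs : ∀ S ∈ subs, ev g S • ω = ω) :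
    ∃ pt : ℕ → Ω, pt 0 = ω ∧ (∀ K : Subgroup G, (∀ x, g x ∈ K) → ∀ v, ∃ k ∈ K, pt v = k • ω) ∧
      ∀ x, x < 5 → ∀ u, u < 27 → tab x u < 27 ∧ g x • pt u = pt (tab x u) :=
  sound_scaled g ω row jrow fget sl inv icol cols (nat_lit 27) (nat_lit 27) (nat_lit 8191) (nat_lit 31) (nat_lit 8192) (nat_lit 65) (nat_lit 78) (nat_lit 8191) (nat_lit 6) (nat_lit 63) (nat_lit 5) (nat_lit 31) 5 cl (nat_lit 65) wt5 rels subs 13 (nat_lit 1) 5
    (fun _ => rfl) hinv h1 hrels hsubs
    (by decide +kernel) (by decide +kernel) all_chk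
universe u in
theorem isEnum : IsEnum.{u} 5 27 rels subs tab := fun _ _ _ _ g ω => enum g ω
end H16.SW5
namespace H16.SW6
open H54 (Tr force band)
open H18.TC
noncomputable def T_0 : Tr := (.node (nat_lit 2) (.node (nat_lit 0) (.leaf (nat_lit 0x1e00005da8b35156a30d44bd0eb6001e000047c88b910f224e43fd8a350000000071b0db61a6c3cdc4dc077b003c000037d86bb0e7618f041c87ba005a00002be05fc097a19ec29e05bc0078000023e833e09f80ff41de843d009600000df837d057c09f811f02fe000000000ff017f027e03fc05f807f)) (.node (nat_lit 1) (.leaf (nat_lit 0x5a0000a59182c276655c8a19163100000000b989aed2ce86fb8b7895f0005a0000a7817af266e56c0a381532003c000083b8ff727e03dd887b91730000000097a12b42d6249d091a11b7000000005bc0af814f02fe065b09f9001e00006fd0d7a19f43ecc63a8e78003c0000859903326e43be889991f4)) (.leaf (nat_lit 0x1276a5e84b5099912b42467003c00013921eee534a79b4fd320a6001e0000eb520263a5476a8e571dee00960001097a42746ce8b9d133a3ab007800010f397f032de63bcc3799ec000000012941ab136da7aa4d969a2f003c0000e171f2938dc6ec4e751e2a007800010b59772335864b0c561a6d))))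 (.node (nat_lit 4) (.node (nat_lit 3) (.leaf (nat_lit 0x3c00018ae2fe060c0bd8d810371d001e0001712b41e5b48bc8568fae9f001e000141327e259bea4893b228a4001e000162fab6355ccbe81532aba5003c0001374a6a45bc298a13d128e2005a0001730aa2552d2a795551abe3001e00014311fea56468398fb4a069009600010d623eb46568aad115a4a8)) (.leaf (nat_lit 0x1d0d3f1575b2f165decb99c005a0001d8ebd967530f261dcc3c19003c0001d2c391d713add75beeb95a0078000196db21f6536d95d9af34de003c0001890359763b8c27d8ce39d800000001dacb8da70b4de69c0d36e0001e0001a2f33e1673cd47998db49b00960001611b25b5944c3716b0aee1))) (.node (nat_lit 5) (.leaf (nat_lit 0x3c0002348c6118e23134a3c7cb0d003c000232845d08da1154e447480f00000002209c2d3842b14421a9c194007800022294292872d16461894493005a000206a4154802f045204a41d200960001eeb3ed884a4fe59f2b3fd500000001f0abd5987a6fd55f4abcd700780001b4bb55c80a8d86daebbd16)) (.leaf (nat_lit 0x960002944d408a7114d2298453c800780002964510aa49347268c4d209005a000282551499f17432a805508a003c0002765ce8b9f953836785cf4b000000026a64d8c9b9931325e6cb4e00000002686cccd991b392e6064ad0001e00024e7c94f919f293e428cb8c001e0002507498e921d2a3a3a847d1)))))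
noncomputable def J_0 : Tr := (.node (nat_lit 2) (.node (nat_lit 0) (.leaf (nat_lit 0x40040000000008004002002800800000000000000000000008008000004002001c004000000000000c009001000000c004000002c00400000100100040010010000010006005001800000102680f405a01d006)) (.node (nat_lit 1) (.leaf (nat_lit 0xc001001002800c0000000020000004000000c00400000000040040000000010000004002000400400800400000100060000020006002000002000c0040040004004000001000800400100100280000000000004004000000)) (.leaf (nat_lit 0x1000600200000060020000000008001001000000000000100000040050010020002002000000000000000300000020020050008008002000000000c004000000c004000002000000e00200000000000010010000000000000)))) (.node (nat_lit 4) (.node (nat_lit 3) (.leaf (nat_lit 0x4003800801000000000080000020038008008000001000800000500100180000000010008002002002000000800400080080000000000000012002005000000000000000080000050010008002002005002000c00a000)) (.leaf (nat_lit 0x100000000020002002000001800200200000380140000000000002002006002800000b001002800000000000000080000038008010000000000000c0040000004004000001000800400300100080020020000020000000000)))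 (.node (nat_lit 5) (.leaf (nat_lit 0x800800000000000100080070010000000000003000000800000080080000010010028000012002000000c009001002800c000000800801400000000400040000000018000002000800800000b0010000004004000)) (.leaf (nat_lit 0x400400a0040018014006000000400400a0010010004000003000400400a0030010000004002000400400800400000040020010020006002000002000c0040000004004000001000800400500100000000000000000002002004)))))
noncomputable def F_0 : Tr := (.node (nat_lit 2) (.node (nat_lit 0) (.leaf (nat_lit 0xdf6d74c6fceecb0aecb6aa298e69619df91e8a06da75c5976194544d055238f34c2061cb24a1050c2040)) (.node (nat_lit 1) (.leaf (nat_lit 0xdf6d74cb3bafc31b2dae9aa89a78a18e591e7e06da75c5945d945841255334e3c82c928c1441c60c2040)) (.leaf (nat_lit 0xdf6d72cf4c31b6cbeeae9aa49a78a882586371e75f5da6546d25584163933513c92c7305286203102040)))) (.node (nat_lit 3) (.leaf (nat_lit 0xdf6d35cf2c31bafaa9a2db2b9a78a48e585d7db8197967145da55841245330b20f38714d286244083040)) (.node (nat_lit 4) (.leaf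 (nat_lit 0xdf5db4cf2c31bafb2dae79a3aa98a0a257a47e175c6da5545d16583ce58d4d24082c714c2862440c1080)) (.leaf (nat_lit 0xdb7d74cf2c31bafb2dae9aa89629e47e685c8da66059e75349b55061745434e3c82c714c2862440c2001)))))
noncomputable def T : Tr := T_0
noncomputable def J : Tr := J_0
noncomputable def F : Tr := F_0
noncomputable def row (u : ℕ) : ℕ := Nat.land (Nat.shiftRight (force (Nat.shiftRight u (nat_lit 3)) T.get) (Nat.mul (Nat.land u (nat_lit 7)) (nat_lit 120))) (nat_lit 0xffffffffffffffffffffffffffffff)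
noncomputable def jrow (u : ℕ) : ℕ := Nat.land (Nat.shiftRight (force (Nat.shiftRight u (nat_lit 3)) J.get) (Nat.mul (Nat.land u (nat_lit 7)) (nat_lit 91))) (nat_lit 0x7ffffffffffffffffffffff)
noncomputable def fget (k fx : ℕ) : ℕ := F.get (Nat.add k fx)
noncomputable def wt0 : LT := (.node (nat_lit 3) (.node (nat_lit 1) (.node (nat_lit 0) (.leaf 15 4 [nat_lit 15, nat_lit 60, nat_lit 0, nat_lit 15, nat_lit 60])
(.leaf 13 4 [nat_lit 15, nat_lit 45, nat_lit 0, nat_lit 15, nat_lit 45]))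
(.node (nat_lit 2) (.leaf 17 4 [nat_lit 15, nat_lit 75, nat_lit 0, nat_lit 15, nat_lit 75])
(.leaf 21 7 [nat_lit 15, nat_lit 30, nat_lit 0, nat_lit 15, nat_lit 30, nat_lit 0, nat_lit 15, nat_lit 30])))
(.node (nat_lit 4) (.leaf 19 0 [nat_lit 15, nat_lit 0, nat_lit 15, nat_lit 0, nat_lit 15])
(.leaf 0 0 [])))
noncomputable def wt1 : LT := (.node (nat_lit 3) (.node (nat_lit 1) (.node (nat_lit 0) (.leaf 19 5 [nat_lit 0, nat_lit 15, nat_lit 0, nat_lit 15, nat_lit 0])
(.leaf 3 0 [nat_lit 60, nat_lit 15, nat_lit 60]))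
(.node (nat_lit 2) (.leaf 1 0 [nat_lit 45, nat_lit 15, nat_lit 45])
(.leaf 23 0 [nat_lit 30, nat_lit 15, nat_lit 30, nat_lit 15, nat_lit 30])))
(.node (nat_lit 8) (.node (nat_lit 4) (.leaf 5 0 [nat_lit 75, nat_lit 15, nat_lit 75])
(.node (nat_lit 6) (.node (nat_lit 5) (.leaf 21 8 [nat_lit 30, nat_lit 0, nat_lit 15, nat_lit 30, nat_lit 0, nat_lit 15, nat_lit 30, nat_lit 0])
(.leaf 13 5 [nat_lit 45, nat_lit 0, nat_lit 15, nat_lit 45, nat_lit 0]))
(.node (nat_lit 7) (.leaf 17 5 [nat_lit 75, nat_lit 0, nat_lit 15, nat_lit 75, nat_lit 0])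
(.leaf 15 5 [nat_lit 60, nat_lit 0, nat_lit 15, nat_lit 60, nat_lit 0]))))
(.leaf 0 0 [])))
noncomputable def wt2 : LT := (.node (nat_lit 3) (.node (nat_lit 1) (.node (nat_lit 0) (.leaf 7 0 [nat_lit 60, nat_lit 30, nat_lit 60])
(.leaf 23 5 [nat_lit 15, nat_lit 30, nat_lit 15, nat_lit 30, nat_lit 15]))
(.node (nat_lit 2) (.leaf 9 0 [nat_lit 75, nat_lit 30, nat_lit 75])
(.leaf 21 0 [nat_lit 0, nat_lit 15, nat_lit 30, nat_lit 0, nat_lit 15, nat_lit 30, nat_lit 0, nat_lit 15])))
(.node (nat_lit 4) (.leaf 25 5 [nat_lit 45, nat_lit 30, nat_lit 45, nat_lit 30, nat_lit 45])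
(.leaf 0 0 [])))
noncomputable def wt3 : LT := (.node (nat_lit 2) (.node (nat_lit 0) (.leaf 1 3 [nat_lit 15, nat_lit 45, nat_lit 15])
(.node (nat_lit 1) (.leaf 13 0 [nat_lit 0, nat_lit 15, nat_lit 45, nat_lit 0, nat_lit 15])
(.leaf 25 0 [nat_lit 30, nat_lit 45, nat_lit 30, nat_lit 45, nat_lit 30])))
(.node (nat_lit 4) (.node (nat_lit 3) (.leaf 11 0 [nat_lit 75, nat_lit 45, nat_lit 75])
(.leaf 27 5 [nat_lit 60, nat_lit 45, nat_lit 60, nat_lit 45, nat_lit 60]))
(.leaf 0 0 [])))
noncomputable def wt4 : LT := (.node (nat_lit 1) (.node (nat_lit 0) (.leaf 3 3 [nat_lit 15, nat_lit 60, nat_lit 15])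
(.leaf 7 3 [nat_lit 30, nat_lit 60, nat_lit 30]))
(.node (nat_lit 3) (.node (nat_lit 2) (.leaf 15 0 [nat_lit 0, nat_lit 15, nat_lit 60, nat_lit 0, nat_lit 15])
(.leaf 27 0 [nat_lit 45, nat_lit 60, nat_lit 45, nat_lit 60, nat_lit 45]))
(.node (nat_lit 4) (.leaf 29 5 [nat_lit 75, nat_lit 60, nat_lit 75, nat_lit 60, nat_lit 75])
(.leaf 0 0 []))))
noncomputable def wt5 : LT := (.node (nat_lit 2) (.node (nat_lit 0) (.leaf 5 3 [nat_lit 15, nat_lit 75, nat_lit 15])
(.node (nat_lit 1) (.leaf 9 3 [nat_lit 30, nat_lit 75, nat_lit 30])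
(.leaf 11 3 [nat_lit 45, nat_lit 75, nat_lit 45])))
(.node (nat_lit 4) (.node (nat_lit 3) (.leaf 17 0 [nat_lit 0, nat_lit 15, nat_lit 75, nat_lit 0, nat_lit 15])
(.leaf 29 0 [nat_lit 60, nat_lit 75, nat_lit 60, nat_lit 75, nat_lit 60]))
(.leaf 0 0 [])))
noncomputable def wt6 : LT := (.leaf 0 0 [])
noncomputable def sl : List (ℕ × ℕ × List ℕ × List ℕ) := [(0, nat_lit 0, [], []),
(2, nat_lit 15, [], []),
(4, nat_lit 30, [], []),
(6, nat_lit 45, [], []),
(8, nat_lit 60, [], [])]
/-- the inverse column -/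
noncomputable def icol (x : ℕ) : ℕ := x
noncomputable def inv (x : ℕ) : ℕ := x
def cols : List ℕ := [nat_lit 90, nat_lit 0, nat_lit 15, nat_lit 30, nat_lit 45, nat_lit 60, nat_lit 75]
noncomputable def cl : CL := (.cons (nat_lit 0) (nat_lit 0) (nat_lit 0) (nat_lit 0) wt0
(.cons (nat_lit 15) (nat_lit 15) (nat_lit 13) (nat_lit 1) wt1
(.cons (nat_lit 30) (nat_lit 30) (nat_lit 26) (nat_lit 2) wt2
(.cons (nat_lit 45) (nat_lit 45) (nat_lit 39) (nat_lit 3) wt3
(.cons (nat_lit 60) (nat_lit 60) (nat_lit 52) (nat_lit 4) wt4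
(.cons (nat_lit 75) (nat_lit 75) (nat_lit 65) (nat_lit 5) wt5
.nil))))))
def rels : List (List ℕ) := [[1, 3, 1, 3],
[1, 4, 1, 4],
[1, 5, 1, 5],
[2, 4, 2, 4],
[2, 5, 2, 5],
[3, 5, 3, 5],
[3, 1, 0, 3, 1, 0],
[4, 1, 0, 4, 1, 0],
[5, 1, 0, 5, 1, 0],
[0, 1, 0, 1, 0, 1],
[2, 1, 0, 2, 1, 0, 2, 1, 0],
[1, 2, 1, 2, 1, 2],
[3, 2, 3, 2, 3, 2],
[4, 3, 4, 3, 4, 3],
[5, 4, 5, 4, 5, 4]]
def subs : List (List ℕ) := [[0],
[1],
[2],
[3],
[4]]
noncomputable def chk : ℕ → Bool := rowChk row jrow fget sl cols (nat_lit 56) (nat_lit 56) (nat_lit 32767) (nat_lit 63) (nat_lit 32768) (nat_lit 90) (nat_lit 105) (nat_lit 8191) (nat_lit 6) (nat_lit 63) (nat_lit 6) (nat_lit 63) cl (nat_lit 78) wt6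
theorem p0 : allB chk 6 0 = true := by decide +kernel
theorem all_chk : AllLt chk 56 := by
  have h := AllLt.zero chk
  have h := h.step 56 p0 (by decide +kernel)
  exact h
/-- column `x` of the final table -/
noncomputable def tab (x u : ℕ) : ℕ := ft fget (nat_lit 6) (nat_lit 63) (nat_lit 6) (nat_lit 63) (Nat.mul x (nat_lit 1)) u
theorem enum {G Ω : Type*} [Group G] [MulAction G Ω] (g : ℕ → G) (ω : Ω)
    (hinv : ∀ x, g (icol x) = (g x)⁻¹) (h1 : g 6 = 1)
    (hrels : ∀ R ∈ rels, ev g R = 1) (hsubs : ∀ S ∈ subs, ev g S • ω = ω) :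
    ∃ pt : ℕ → Ω, pt 0 = ω ∧ (∀ K : Subgroup G, (∀ x, g x ∈ K) → ∀ v, ∃ k ∈ K, pt v = k • ω) ∧
      ∀ x, x < 6 → ∀ u, u < 56 → tab x u < 56 ∧ g x • pt u = pt (tab x u) :=
  sound_scaled g ω row jrow fget sl inv icol cols (nat_lit 56) (nat_lit 56) (nat_lit 32767) (nat_lit 63) (nat_lit 32768) (nat_lit 90) (nat_lit 105) (nat_lit 8191) (nat_lit 6) (nat_lit 63) (nat_lit 6) (nat_lit 63) 6 cl (nat_lit 78) wt6 rels subs 15 (nat_lit 1) 6
    (fun _ => rfl) hinv h1 hrels hsubs
    (by decide +kernel) (by decide +kernel) all_chk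
universe u in
theorem isEnum : IsEnum.{u} 6 56 rels subs tab := fun _ _ _ _ g ω => enum g ω
end H16.SW6
namespace H16.SW7
open H54 (Tr force band)
open H18.TC
noncomputable def T_0 : Tr := (.node (nat_lit 6) (.node (nat_lit 2) (.node (nat_lit 0) (.leaf (nat_lit 0x88000030f017f80bbc05be031f015fa0d7a00000000024f511fa88bd443ea26f60cfb853e80044000009fd04de825f4147a08fd859e02af200330000041ec1ff6117b073e049e81ef610fb00220000019f80dfc057e83bec18f80bfc06be0015400000a7d03bf02df012fa08fd043e827f400cc000001ff81ff40cfc05fe02bf013f80dfc00000000011f806fe02ff013f807fc02fe00ff)) (.node (nat_lit 1) (.leaf (nat_lit 0x73e0397021360dfcc89da38f01b77800cc000034ef19f78ebb860ec366f19778d5c400440000153b0a5d850ec31ef13ba8add858e4000000000bfcc5ee62ef31c380b9cc5be62cf60000000003cee1d770e3b86ddc3eee20f50d3c000440000247911bc889e442f227f2103a095dc0044000015790a7c851e430f1133c8afc85ae60011000007bd03be81cf40dfa07fd032f225f5)) (.leaf (nat_lit 0x110000099d05d6225f69898c95d84de4283200044000048e9243493b908fd249692376927b400aa000037b2945b8aecc55e62a7314f98acd4004400000f9b8a5cc3b6f1fb70f5b878dc406b00000000087d8596720f810db096d042ec207700088000045ed22b6931a08cda447023b4929a4008800001f75947a874e23feb1ef58f3ac82d8003300000d1c466e23beb18b90d7c464e23770))))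 (.node (nat_lit 4) (.node (nat_lit 3) (.leaf (nat_lit 0x3300000dfcc74e539f29cb94e3ca70e53af000000000077673cf09e584f1c27adc3c309d994004400003e6e173a0b8c46bdd2db397978c1bc0033000018b8cd9ba63e330f418d8cc9be67df0008800009ec85fde27349977ca1c84d6827f40019800006eea3ab01d180e6c0726038b01db8400aa00003830149acadd4556a2a3514da8b0ce000000001df84b1d85ae72d3396f88b3ce57e6)) (.leaf (nat_lit 0x88000133a497584b2ea576131b094d44bea0004400007f5e3f6c9f96504a681593eae2017000aa000041e99a17d26a8695e466a9ab74dbba0022000022b6d1baa8a5b45eda257d16b6a7d6001100000f8c47bdc3dae2175cf4c27dd9406c80044000087573631a5b60d6c46e5d352d1b568002200003fec97d90bdbc69da30af17788c0c40011000019b7cd1b4665f32b22276cc8c66763))) (.node (nat_lit 5) (.leaf (nat_lit 0x19800016b92b0d660a52bf3d679eb1cf5968000880000acd657a7aaf5955aca85654ab2b54400cc00004cac3292d36ae9ad24d292733140980033000020d6905a69e4c40eca3f3509ae88570022000013e989454496d24f514a9c95584c2c000880000914d46ada99391daa8c5a472aab93c000000005628ac54156a2aa515468aa7454eb60011000021b750cae9bd242ae2235d08a687d3))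 (.leaf (nat_lit 0x33000017b80c04a5f67b97058594c1ca6264000000000b5505b63b1b09748eb9475be3ad13400aa000063e12ff2181a0e8c361a430921889c005500003312d93a4cbcb65a5b2b2d9a88d0c40008800013da8cf444ee9a7531428a9c524fe900088000090d54826a8915249a8f5348e6ad32400cc000051a2a9b394baaed46526a291398794000000002e31d5da2bf4858282cd4164a0add5))))) (.node (nat_lit 10) (.node (nat_lit 8) (.node (nat_lit 7) (.leaf (nat_lit 0x17c90d9385e63b8ce59184c5c25de2801980000e4397521b9b0dca91063a74a1bb1180022000063a5358ed8c92e03c64a03150190840044000039cf1d582e6417425424f5d382eb430008800019f88cecc672233711a37ccccb6825800880000a3ce699f28735b97ea0cc5162af1000000000076dfbbf19de8cecce78233bb19d782005500002e13d6c92bd405d64ae7256e92bb47)) (.leaf (nat_lit 0x3300001ad76d8c06dddbc8c1b476d7bb6d5c001100000e4c17898382f1c580fd3170de38ee4004400008358c2ef6107b0abd82e0c34da85640000000035ce1ab84db387a19b66e1b070d4be000000001cf86f533709cb7f09f868e2396f5f80110000109b4861d41eea167508c3889ac3cd80044000069df34b15a47cf8b768a2350f9aa76003300003b919f36ede3f6e22b76fdba7edf3c)))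 (.node (nat_lit 9) (.leaf (nat_lit 0x2a80001e666f0b992133c6e22c4ef5b37bdb800880001073a8b93bf6d1fd68fcb98117404b000000000a195d24ca89654432b994516b68474006600003cac1e979252979ddc64a9ec60f6b3001100002147b1a2a7f18bfcc5f779002c9e9580110000111ac8a9b43eda286d1336885ed22b40022000086d7452d6206b13b5895ac32ea1d7a000000003eaddf27f2baf7c1f3ecddf46ef730)) (.leaf (nat_lit 0x1100002e9457428b9d46347ee56575a8bb1400110000126a69493492ce504d302092d34aabc00cc00008bd3c66d25e411b278c59c808e3c480000000050eca984340aba015dc28a7e4b3cb4000880002246b2123821740cba0a5cffb480588004400014725a4d6d1ab68c5b4a2da299520d400220000871b47492075902ac8256406c67c4a000000004b6be5a5f2b379657cb8be585f2a29)))) (.node (nat_lit 12) (.node (nat_lit 11) (.leaf (nat_lit 0x2200002623d339e97555685e5f53351ba94c0000000014d21a5d5d4e6299437719a70ed2a9c00440000ba945e066e2458a9ab815dc68ae4440066000047a924159361b9192488923f55511d0008800023e471cae9d0e48a8e43471ba78ed500000000147ada7ced0496834b3fa59f55cf6b8008800009394ca6a6476128a9990f498a64f4c00220000460aa2d63331e8d55456c238494b21))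 (.leaf (nat_lit 0x2a8315498a990db23af51f5594a9100008800017899bbd15ee3f222176a1bc8cde66400660000c78fe4a4333238a22c60d62c6b1734001100004ee72703935a3b1894ea726941369e002a800027837379b9cd25804e7637389eac4a000440001501da792d5a529d3b519da6d0d428c00cc000098504d082654f5b1598d34e4726e360033000063a6b1c3f9d16c6546407f1b3f8f9f))) (.node (nat_lit 13) (.leaf (nat_lit 0x19800032621921aca486426728219190c9c80011000019f16ce08e646b37239a91cd08e6c4400660000b2c9d924ecd27629bc0c558e5ed018003300005984aca256712afce5fc2ec12b6197000880002af295714ab0eda432b2295518ac0e000cc00015c97adcbd7a5eb53d5d97b089dbc3800880000cf48e8437393fa016cf0b6765b3f2c0033000057456b82b5f15acd057856c8256213)) (.leaf (nat_lit 0x331119808cbc465c232d119608ca850008800018809c3c4e1c271213860cc444e262400220000c2c5e102f0717820bc0896002f2b10002200006142b0915830ac1455fa4f01157f8b000000002d419698cb5465a2530d136b8eb3c9001540001a40dd04b68e37451ba20dd0c6e8c3400220000b7075b63ada1d6c18b7c75ac32dd2a002200005f23ef81f7b19bec7de862fa1f7e0f))))))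
noncomputable def J_0 : Tr := (.node (nat_lit 6) (.node (nat_lit 2) (.node (nat_lit 0) (.leaf (nat_lit 0x40020010008016002000000000000000000000000010010000008004002002c00400000000000140080058008000006001000001000b0010000008008002000001a002000002001000a0030004004000004001800400c005000000205d02680f405a01d006)) (.node (nat_lit 1) (.leaf (nat_lit 0xc00600000100000050010000000000000800800000000100000080040020004004002004000000c006003000000c005001000000c006003001000c001001000000400200100080020020060000000000000000400400000000000000000000000002002000)) (.leaf (nat_lit 0x80000020004004000000000000400200000080160020040000002002000000000000000300000100010010030008008002000000c00000300100000050010000008004000002c0040000000000000001001000000000000000000140080008008018006000)))) (.node (nat_lit 4) (.node (nat_lit 3) (.leaf (nat_lit 0x400400c004001800400c005000000c0060030010000005001000000000400200040040000000000014000005800801800000000000040000010000016002002000400400000000000000000000000002002006002001000a00000000000060030010000005001))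 (.leaf (nat_lit 0x2001000800a00200200000040020010000016002005000000200200000200000000000000008000002002c00400200000000080040020004004000000000000000200000080120020010000000002001000001600200300000040000010008002002001))) (.node (nat_lit 5) (.leaf (nat_lit 0x800080080000100060000000000000000400400e0060004004000004001800400000000000140080008008000000000000000000b00100300000000000000000004000002c004002000000000c000003001000000100100000040020000008006002001)) (.leaf (nat_lit 0x40040000040000008008002000000c000000001800400100100000020020060000000000000000001a0020060020010000000000000400000100080020020020000008004000002c004002000000400400a004000000400c0020000000006000000000c001001))))) (.node (nat_lit 10) (.node (nat_lit 8) (.node (nat_lit 7) (.leaf (nat_lit 0x3000000c0010010004004008000001800000600000000040000010000002002002000001000100100300000000010000004002001000800200200300000000000020004004002000000000c0060030010004005001000001a0020000000000012005))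 (.leaf (nat_lit 0x400400c0000000000014003000000000100100300000160010000008004000001c0040000000000000006006000001000100100000000000000010000001001000001000100100000080000000000008004002000400400200000000000000058008018006000))) (.node (nat_lit 9) (.leaf (nat_lit 0x2002000002000000a0000000000000002002c004000000000000c0060040018000001001000400400c0000018000000003000000000000000040040000000000010001001000000000800000000040020000018006002005000000c0060000010010005001)) (.leaf (nat_lit 0x80040020004004002004000001000b0010030000008000000400400c000000000400000000000000000030010000001001000000000000000000020020040000004002001000800e00200100000000000010008016002000000000c0060030010008005001)))) (.node (nat_lit 12) (.node (nat_lit 11) (.leaf (nat_lit 0xb00100000080000000000018006000002000000100100000000000020004004002004000400400c000000000000c000000000000200000200120020030000000000001000800c0050010000000001001000000000000200000000040000024004000000)) (.leaf (nat_lit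 0x1000a003000000000100100000080040000004004002004000000000000080080180060010000010000001000000a0020020000002002006000000000a0000000004002000000800e0020010004004000004000000400000000000140080008008018006001))) (.node (nat_lit 13) (.leaf (nat_lit 0x140080058008018006001000000000b001003000800800200000140080058008000006000000000000000080080000060010000004002001000000e002002000001400800580080180000000000010001001003000800800200000000000008008000000000)) (.leaf (nat_lit 0xc006003001000c0050010000008004002002c004002004000000000e00000380160020000000008000007000400400000700000140080050010000001001000001a002006002001000a0030000004002001000801e0020010000008004002002c004002004))))))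
noncomputable def F_0 : Tr := (.node (nat_lit 6) (.node (nat_lit 2) (.node (nat_lit 0) (.leaf (nat_lit 0x74e5ebc68fdf386ec98bb5ad9aaa5eb99a84ec122c568d1294c94e9c3e690a02e78c193648a94225898f20386890e2060a16143040608080)) (.node (nat_lit 1) (.leaf (nat_lit 0xebdbbf4dbcb570dfbb9e8c7c74ecbf9b2e1d773260cf62ee2ab46cdeaf42dcb9d2ad56914e2cca94a14f8f1a6c18126243)) (.leaf (nat_lit 0x7af1fbe68e9cb66ae1bbb5ac98af60a59a84ea972c568d1244c94e9c34790a02e7ca983648c912658a0e1e4048c142c6860a203840608080)))) (.node (nat_lit 4) (.node (nat_lit 3) (.leaf (nat_lit 0xefdba75e3cb9f0dfbb46acfb34edd79b2dfc37b1e0c98aed5b152b5baf66e5a9736750994694fa70a2c8890e4c78d2a0c0)) (.leaf (nat_lit 0x7b15fc282cdcb66ae1bb474b15af60a56b262957284e995203c890a4348cc1c367ca9d2658c912e3ca0e244050c103430b0e242050608080))) (.node (nat_lit 5) (.leaf (nat_lit 0xefcf6ecedcb8e7dfbbaf4d7a34eae17b2e3c98ace0ad9aa5bb96b0cf9b7e65da34a9d0b11abd587265488939f4796f1dc0)) (.leaf (nat_lit 0x8cde1b577018b67ce1e3466c9caf60a56a656a97234eb10a4507529b3479117407ca983858c912648a0d182480f101870b0e282830808080)))))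 (.node (nat_lit 9) (.node (nat_lit 7) (.leaf (nat_lit 0xefdba75d7cb3f0cdbb263e7874dfe3beeedd98b557d17b2dbb96ab55c166c54a34a9d08f2e6c49d265419efe14c7b1643a)) (.node (nat_lit 8) (.leaf (nat_lit 0x70f1b3e76c9cbf60f57b458e95376aa54334ac572d44995a4469d0a03478e9c2c7ca98246cc901e5c714264448c101868b0e28284040c080)) (.leaf (nat_lit 0xefdba75e7cb8e6df9766dc5a306abdc375cb7aec69ab9eee4c76a7e1af32fd4a34a9c8b32e6d69d26550890e1478d160c0)))) (.node (nat_lit 11) (.node (nat_lit 10) (.leaf (nat_lit 0x8ef223e6705cb66ae1bad76c98ae52c1a2c56917a84e9902a4670da53478ba2427ca133a588993048a8e1e4048c101868b0e282840604100)) (.leaf (nat_lit 0xefdba75e7a78f0cbbb66dd7a396acf777e3c96afe0c353353a38ab4eaf665deb94add08d626c3ab265407f3e13d9915d48))) (.node (nat_lit 12) (.leaf (nat_lit 0x6f19ac376c60307ebdeb456a9d386ca53a566c97225a856243aa1320326119c3654f9e2e58d112648a0e1e4048c101868b0e282840608001)) (.leaf (nat_lit 0xefdba75e7cb8f0dfa766dd7a376acf9b063c98afe5c37abdbb94ab55bb66c4d956a4d09916a4f854e8c888fa747792e0b9))))))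
noncomputable def T : Tr := T_0
noncomputable def J : Tr := J_0
noncomputable def F : Tr := F_0
noncomputable def row (u : ℕ) : ℕ := Nat.land (Nat.shiftRight (force (Nat.shiftRight u (nat_lit 3)) T.get) (Nat.mul (Nat.land u (nat_lit 7)) (nat_lit 153))) (nat_lit 0x1ffffffffffffffffffffffffffffffffffffff)
noncomputable def jrow (u : ℕ) : ℕ := Nat.land (Nat.shiftRight (force (Nat.shiftRight u (nat_lit 3)) J.get) (Nat.mul (Nat.land u (nat_lit 7)) (nat_lit 104))) (nat_lit 0xffffffffffffffffffffffffff)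
noncomputable def fget (k fx : ℕ) : ℕ := F.get (Nat.add k fx)
noncomputable def wt0 : LT := (.node (nat_lit 2) (.node (nat_lit 0) (.leaf 21 4 [nat_lit 17, nat_lit 51, nat_lit 0, nat_lit 17, nat_lit 51])
(.node (nat_lit 1) (.leaf 23 4 [nat_lit 17, nat_lit 68, nat_lit 0, nat_lit 17, nat_lit 68])
(.leaf 25 4 [nat_lit 17, nat_lit 85, nat_lit 0, nat_lit 17, nat_lit 85])))
(.node (nat_lit 6) (.node (nat_lit 3) (.leaf 31 7 [nat_lit 17, nat_lit 34, nat_lit 0, nat_lit 17, nat_lit 34, nat_lit 0, nat_lit 17, nat_lit 34])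
(.node (nat_lit 4) (.leaf 27 4 [nat_lit 17, nat_lit 102, nat_lit 0, nat_lit 17, nat_lit 102])
(.node (nat_lit 5) (.leaf 29 0 [nat_lit 17, nat_lit 0, nat_lit 17, nat_lit 0, nat_lit 17])
(.leaf 43 113 [nat_lit 34, nat_lit 0, nat_lit 34, nat_lit 51, nat_lit 68, nat_lit 85, nat_lit 102, nat_lit 68, nat_lit 51, nat_lit 34, nat_lit 17, nat_lit 0, nat_lit 17, nat_lit 34, nat_lit 51, nat_lit 68, nat_lit 85, nat_lit 0, nat_lit 17, nat_lit 34, nat_lit 51, nat_lit 68, nat_lit 17, nat_lit 34, nat_lit 51, nat_lit 17, nat_lit 0, nat_lit 34, nat_lit 0, nat_lit 34, nat_lit 51, nat_lit 68, nat_lit 85, nat_lit 102, nat_lit 34, nat_lit 0, nat_lit 34, nat_lit 51, nat_lit 68, nat_lit 85, nat_lit 17, nat_lit 0, nat_lit 17, nat_lit 34, nat_lit 51, nat_lit 68, nat_lit 0, nat_lit 17, nat_lit 34, nat_lit 17, nat_lit 0, nat_lit 17, nat_lit 34, nat_lit 51, nat_lit 34, nat_lit 0, nat_lit 34, nat_lit 0, nat_lit 34, nat_lit 51, nat_lit 68, nat_lit 85, nat_lit 102, nat_lit 68, nat_lit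 51, nat_lit 34, nat_lit 17, nat_lit 0, nat_lit 17, nat_lit 34, nat_lit 51, nat_lit 68, nat_lit 85, nat_lit 0, nat_lit 17, nat_lit 34, nat_lit 51, nat_lit 68, nat_lit 17, nat_lit 34, nat_lit 51, nat_lit 17, nat_lit 0, nat_lit 34, nat_lit 0, nat_lit 34, nat_lit 51, nat_lit 68, nat_lit 85, nat_lit 102, nat_lit 34, nat_lit 0, nat_lit 34, nat_lit 51, nat_lit 68, nat_lit 85, nat_lit 17, nat_lit 0, nat_lit 17, nat_lit 34, nat_lit 51, nat_lit 68, nat_lit 0, nat_lit 17, nat_lit 34, nat_lit 17, nat_lit 0, nat_lit 17, nat_lit 34, nat_lit 51, nat_lit 34]))))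
(.leaf 0 0 [])))
noncomputable def wt1 : LT := (.node (nat_lit 3) (.node (nat_lit 1) (.node (nat_lit 0) (.leaf 33 0 [nat_lit 34, nat_lit 17, nat_lit 34, nat_lit 17, nat_lit 34])
(.leaf 29 5 [nat_lit 0, nat_lit 17, nat_lit 0, nat_lit 17, nat_lit 0]))
(.node (nat_lit 2) (.leaf 1 0 [nat_lit 51, nat_lit 17, nat_lit 51])
(.leaf 3 0 [nat_lit 68, nat_lit 17, nat_lit 68])))
(.node (nat_lit 10) (.node (nat_lit 4) (.leaf 5 0 [nat_lit 85, nat_lit 17, nat_lit 85])
(.node (nat_lit 5) (.leaf 7 0 [nat_lit 102, nat_lit 17, nat_lit 102])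
(.node (nat_lit 7) (.node (nat_lit 6) (.leaf 31 8 [nat_lit 34, nat_lit 0, nat_lit 17, nat_lit 34, nat_lit 0, nat_lit 17, nat_lit 34, nat_lit 0])
(.leaf 21 5 [nat_lit 51, nat_lit 0, nat_lit 17, nat_lit 51, nat_lit 0]))
(.node (nat_lit 8) (.leaf 25 5 [nat_lit 85, nat_lit 0, nat_lit 17, nat_lit 85, nat_lit 0])
(.node (nat_lit 9) (.leaf 27 5 [nat_lit 102, nat_lit 0, nat_lit 17, nat_lit 102, nat_lit 0])
(.leaf 23 5 [nat_lit 68, nat_lit 0, nat_lit 17, nat_lit 68, nat_lit 0]))))))
(.leaf 0 0 [])))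
noncomputable def wt2 : LT := (.node (nat_lit 3) (.node (nat_lit 1) (.node (nat_lit 0) (.leaf 13 0 [nat_lit 102, nat_lit 34, nat_lit 102])
(.leaf 9 0 [nat_lit 68, nat_lit 34, nat_lit 68]))
(.node (nat_lit 2) (.leaf 31 0 [nat_lit 0, nat_lit 17, nat_lit 34, nat_lit 0, nat_lit 17, nat_lit 34, nat_lit 0, nat_lit 17])
(.leaf 11 0 [nat_lit 85, nat_lit 34, nat_lit 85])))
(.node (nat_lit 6) (.node (nat_lit 4) (.leaf 33 5 [nat_lit 17, nat_lit 34, nat_lit 17, nat_lit 34, nat_lit 17])
(.node (nat_lit 5) (.leaf 35 5 [nat_lit 51, nat_lit 34, nat_lit 51, nat_lit 34, nat_lit 51])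
(.leaf 43 101 [nat_lit 51, nat_lit 68, nat_lit 0, nat_lit 17, nat_lit 34, nat_lit 17, nat_lit 0, nat_lit 17, nat_lit 34, nat_lit 51, nat_lit 34, nat_lit 0, nat_lit 34, nat_lit 0, nat_lit 34, nat_lit 51, nat_lit 68, nat_lit 85, nat_lit 102, nat_lit 68, nat_lit 51, nat_lit 34, nat_lit 17, nat_lit 0, nat_lit 17, nat_lit 34, nat_lit 51, nat_lit 68, nat_lit 85, nat_lit 0, nat_lit 17, nat_lit 34, nat_lit 51, nat_lit 68, nat_lit 17, nat_lit 34, nat_lit 51, nat_lit 17, nat_lit 0, nat_lit 34, nat_lit 0, nat_lit 34, nat_lit 51, nat_lit 68, nat_lit 85, nat_lit 102, nat_lit 34, nat_lit 0, nat_lit 34, nat_lit 51, nat_lit 68, nat_lit 85, nat_lit 17, nat_lit 0, nat_lit 17, nat_lit 34, nat_lit 51, nat_lit 68, nat_lit 0, nat_lit 17, nat_lit 34, nat_lit 17, nat_lit 0, nat_lit 17, nat_lit 34, nat_lit 51, nat_lit 34, nat_lit 0, nat_lit 34, nat_lit 0, nat_lit 34, nat_lit 51, nat_lit 68, nat_lit 85, nat_lit 102, nat_lit 68, nat_lit 51, nat_lit 34, nat_lit 17, nat_lit 0, nat_lit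 17, nat_lit 34, nat_lit 51, nat_lit 68, nat_lit 85, nat_lit 0, nat_lit 17, nat_lit 34, nat_lit 51, nat_lit 68, nat_lit 17, nat_lit 34, nat_lit 51, nat_lit 17, nat_lit 0, nat_lit 34, nat_lit 0, nat_lit 34, nat_lit 51, nat_lit 68, nat_lit 85, nat_lit 102, nat_lit 34, nat_lit 0, nat_lit 34, nat_lit 51, nat_lit 68, nat_lit 85, nat_lit 17, nat_lit 0, nat_lit 17])))
(.leaf 0 0 [])))
noncomputable def wt3 : LT := (.node (nat_lit 2) (.node (nat_lit 0) (.leaf 1 3 [nat_lit 17, nat_lit 51, nat_lit 17])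
(.node (nat_lit 1) (.leaf 21 0 [nat_lit 0, nat_lit 17, nat_lit 51, nat_lit 0, nat_lit 17])
(.leaf 17 0 [nat_lit 102, nat_lit 51, nat_lit 102])))
(.node (nat_lit 4) (.node (nat_lit 3) (.leaf 15 0 [nat_lit 85, nat_lit 51, nat_lit 85])
(.leaf 35 0 [nat_lit 34, nat_lit 51, nat_lit 34, nat_lit 51, nat_lit 34]))
(.node (nat_lit 6) (.node (nat_lit 5) (.leaf 37 5 [nat_lit 68, nat_lit 51, nat_lit 68, nat_lit 51, nat_lit 68])
(.leaf 43 82 [nat_lit 17, nat_lit 0, nat_lit 34, nat_lit 0, nat_lit 34, nat_lit 51, nat_lit 68, nat_lit 85, nat_lit 102, nat_lit 34, nat_lit 0, nat_lit 34, nat_lit 51, nat_lit 68, nat_lit 85, nat_lit 17, nat_lit 0, nat_lit 17, nat_lit 34, nat_lit 51, nat_lit 68, nat_lit 0, nat_lit 17, nat_lit 34, nat_lit 17, nat_lit 0, nat_lit 17, nat_lit 34, nat_lit 51, nat_lit 34, nat_lit 0, nat_lit 34, nat_lit 0, nat_lit 34, nat_lit 51, nat_lit 68, nat_lit 85, nat_lit 102, nat_lit 68, nat_lit 51, nat_lit 34, nat_lit 17, nat_lit 0, nat_lit 17, nat_lit 34,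 nat_lit 51, nat_lit 68, nat_lit 85, nat_lit 0, nat_lit 17, nat_lit 34, nat_lit 51, nat_lit 68, nat_lit 17, nat_lit 34, nat_lit 51, nat_lit 17, nat_lit 0, nat_lit 34, nat_lit 0, nat_lit 34, nat_lit 51, nat_lit 68, nat_lit 85, nat_lit 102, nat_lit 34, nat_lit 0, nat_lit 34, nat_lit 51, nat_lit 68, nat_lit 85, nat_lit 17, nat_lit 0, nat_lit 17, nat_lit 34, nat_lit 51, nat_lit 68, nat_lit 0, nat_lit 17, nat_lit 34, nat_lit 17, nat_lit 0, nat_lit 17, nat_lit 34, nat_lit 51, nat_lit 34, nat_lit 0, nat_lit 34, nat_lit 0, nat_lit 34, nat_lit 51, nat_lit 68, nat_lit 85, nat_lit 102, nat_lit 68, nat_lit 51, nat_lit 34, nat_lit 17, nat_lit 0, nat_lit 17, nat_lit 34, nat_lit 51, nat_lit 68, nat_lit 85, nat_lit 0, nat_lit 17, nat_lit 34, nat_lit 51, nat_lit 68, nat_lit 17, nat_lit 34]))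
(.leaf 0 0 []))))
noncomputable def wt4 : LT := (.node (nat_lit 2) (.node (nat_lit 0) (.leaf 3 3 [nat_lit 17, nat_lit 68, nat_lit 17])
(.node (nat_lit 1) (.leaf 9 3 [nat_lit 34, nat_lit 68, nat_lit 34])
(.leaf 23 0 [nat_lit 0, nat_lit 17, nat_lit 68, nat_lit 0, nat_lit 17])))
(.node (nat_lit 5) (.node (nat_lit 3) (.leaf 19 0 [nat_lit 102, nat_lit 68, nat_lit 102])
(.node (nat_lit 4) (.leaf 37 0 [nat_lit 51, nat_lit 68, nat_lit 51, nat_lit 68, nat_lit 51])
(.leaf 39 5 [nat_lit 85, nat_lit 68, nat_lit 85, nat_lit 68, nat_lit 85])))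
(.node (nat_lit 6) (.leaf 43 103 [nat_lit 0, nat_lit 17, nat_lit 34, nat_lit 17, nat_lit 0, nat_lit 17, nat_lit 34, nat_lit 51, nat_lit 34, nat_lit 0, nat_lit 34, nat_lit 0, nat_lit 34, nat_lit 51, nat_lit 68, nat_lit 85, nat_lit 102, nat_lit 68, nat_lit 51, nat_lit 34, nat_lit 17, nat_lit 0, nat_lit 17, nat_lit 34, nat_lit 51, nat_lit 68, nat_lit 85, nat_lit 0, nat_lit 17, nat_lit 34, nat_lit 51, nat_lit 68, nat_lit 17, nat_lit 34, nat_lit 51, nat_lit 17, nat_lit 0, nat_lit 34, nat_lit 0, nat_lit 34, nat_lit 51, nat_lit 68, nat_lit 85, nat_lit 102, nat_lit 34, nat_lit 0, nat_lit 34, nat_lit 51, nat_lit 68, nat_lit 85, nat_lit 17, nat_lit 0, nat_lit 17, nat_lit 34, nat_lit 51, nat_lit 68, nat_lit 0, nat_lit 17, nat_lit 34, nat_lit 17, nat_lit 0, nat_lit 17, nat_lit 34, nat_lit 51, nat_lit 34, nat_lit 0, nat_lit 34, nat_lit 0, nat_lit 34, nat_lit 51, nat_lit 68, nat_lit 85, nat_lit 102, nat_lit 68, nat_lit 51, nat_lit 34, nat_lit 17, nat_lit 0, nat_lit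 17, nat_lit 34, nat_lit 51, nat_lit 68, nat_lit 85, nat_lit 0, nat_lit 17, nat_lit 34, nat_lit 51, nat_lit 68, nat_lit 17, nat_lit 34, nat_lit 51, nat_lit 17, nat_lit 0, nat_lit 34, nat_lit 0, nat_lit 34, nat_lit 51, nat_lit 68, nat_lit 85, nat_lit 102, nat_lit 34, nat_lit 0, nat_lit 34, nat_lit 51, nat_lit 68, nat_lit 85, nat_lit 17, nat_lit 0, nat_lit 17, nat_lit 34, nat_lit 51])
(.leaf 0 0 []))))
noncomputable def wt5 : LT := (.node (nat_lit 2) (.node (nat_lit 0) (.leaf 5 3 [nat_lit 17, nat_lit 85, nat_lit 17])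
(.node (nat_lit 1) (.leaf 11 3 [nat_lit 34, nat_lit 85, nat_lit 34])
(.leaf 25 0 [nat_lit 0, nat_lit 17, nat_lit 85, nat_lit 0, nat_lit 17])))
(.node (nat_lit 4) (.node (nat_lit 3) (.leaf 15 3 [nat_lit 51, nat_lit 85, nat_lit 51])
(.leaf 39 0 [nat_lit 68, nat_lit 85, nat_lit 68, nat_lit 85, nat_lit 68]))
(.node (nat_lit 6) (.node (nat_lit 5) (.leaf 41 5 [nat_lit 102, nat_lit 85, nat_lit 102, nat_lit 85, nat_lit 102])
(.leaf 43 97 [nat_lit 17, nat_lit 0, nat_lit 17, nat_lit 34, nat_lit 51, nat_lit 68, nat_lit 0, nat_lit 17, nat_lit 34, nat_lit 17, nat_lit 0, nat_lit 17, nat_lit 34, nat_lit 51, nat_lit 34, nat_lit 0, nat_lit 34, nat_lit 0, nat_lit 34, nat_lit 51, nat_lit 68, nat_lit 85, nat_lit 102, nat_lit 68, nat_lit 51, nat_lit 34, nat_lit 17, nat_lit 0, nat_lit 17, nat_lit 34, nat_lit 51, nat_lit 68, nat_lit 85, nat_lit 0, nat_lit 17, nat_lit 34, nat_lit 51, nat_lit 68, nat_lit 17, nat_lit 34, nat_lit 51, nat_lit 17, nat_lit 0, nat_lit 34, nat_lit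 0, nat_lit 34, nat_lit 51, nat_lit 68, nat_lit 85, nat_lit 102, nat_lit 34, nat_lit 0, nat_lit 34, nat_lit 51, nat_lit 68, nat_lit 85, nat_lit 17, nat_lit 0, nat_lit 17, nat_lit 34, nat_lit 51, nat_lit 68, nat_lit 0, nat_lit 17, nat_lit 34, nat_lit 17, nat_lit 0, nat_lit 17, nat_lit 34, nat_lit 51, nat_lit 34, nat_lit 0, nat_lit 34, nat_lit 0, nat_lit 34, nat_lit 51, nat_lit 68, nat_lit 85, nat_lit 102, nat_lit 68, nat_lit 51, nat_lit 34, nat_lit 17, nat_lit 0, nat_lit 17, nat_lit 34, nat_lit 51, nat_lit 68, nat_lit 85, nat_lit 0, nat_lit 17, nat_lit 34, nat_lit 51, nat_lit 68, nat_lit 17, nat_lit 34, nat_lit 51, nat_lit 17, nat_lit 0, nat_lit 34, nat_lit 0, nat_lit 34, nat_lit 51, nat_lit 68, nat_lit 85, nat_lit 102, nat_lit 34, nat_lit 0, nat_lit 34, nat_lit 51, nat_lit 68]))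
(.leaf 0 0 []))))
noncomputable def wt6 : LT := (.node (nat_lit 2) (.node (nat_lit 0) (.leaf 7 3 [nat_lit 17, nat_lit 102, nat_lit 17])
(.node (nat_lit 1) (.leaf 13 3 [nat_lit 34, nat_lit 102, nat_lit 34])
(.leaf 27 0 [nat_lit 0, nat_lit 17, nat_lit 102, nat_lit 0, nat_lit 17])))
(.node (nat_lit 4) (.node (nat_lit 3) (.leaf 19 3 [nat_lit 68, nat_lit 102, nat_lit 68])
(.leaf 17 3 [nat_lit 51, nat_lit 102, nat_lit 51]))
(.node (nat_lit 5) (.leaf 41 0 [nat_lit 85, nat_lit 102, nat_lit 85, nat_lit 102, nat_lit 85])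
(.leaf 0 0 []))))
noncomputable def wt7 : LT := (.leaf 0 0 [])
noncomputable def sl : List (ℕ × ℕ × List ℕ × List ℕ) := [(0, nat_lit 0, [], []),
(2, nat_lit 17, [], []),
(4, nat_lit 34, [], []),
(6, nat_lit 51, [], []),
(8, nat_lit 68, [], []),
(10, nat_lit 85, [], [])]
/-- the inverse column -/
noncomputable def icol (x : ℕ) : ℕ := x
noncomputable def inv (x : ℕ) : ℕ := x
def cols : List ℕ := [nat_lit 119, nat_lit 0, nat_lit 17, nat_lit 34, nat_lit 51, nat_lit 68, nat_lit 85, nat_lit 102]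
noncomputable def cl : CL := (.cons (nat_lit 0) (nat_lit 0) (nat_lit 0) (nat_lit 0) wt0
(.cons (nat_lit 17) (nat_lit 17) (nat_lit 13) (nat_lit 2) wt1
(.cons (nat_lit 34) (nat_lit 34) (nat_lit 26) (nat_lit 4) wt2
(.cons (nat_lit 51) (nat_lit 51) (nat_lit 39) (nat_lit 6) wt3
(.cons (nat_lit 68) (nat_lit 68) (nat_lit 52) (nat_lit 8) wt4
(.cons (nat_lit 85) (nat_lit 85) (nat_lit 65) (nat_lit 10) wt5
(.cons (nat_lit 102) (nat_lit 102) (nat_lit 78) (nat_lit 12) wt6
.nil)))))))
def rels : List (List ℕ) := [[1, 3, 1, 3],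
[1, 4, 1, 4],
[1, 5, 1, 5],
[1, 6, 1, 6],
[2, 4, 2, 4],
[2, 5, 2, 5],
[2, 6, 2, 6],
[3, 5, 3, 5],
[3, 6, 3, 6],
[4, 6, 4, 6],
[3, 1, 0, 3, 1, 0],
[4, 1, 0, 4, 1, 0],
[5, 1, 0, 5, 1, 0],
[6, 1, 0, 6, 1, 0],
[0, 1, 0, 1, 0, 1],
[2, 1, 0, 2, 1, 0, 2, 1, 0],
[1, 2, 1, 2, 1, 2],
[3, 2, 3, 2, 3, 2],
[4, 3, 4, 3, 4, 3],
[5, 4, 5, 4, 5, 4],
[6, 5, 6, 5, 6, 5],
[1, 0, 2, 0, 2, 3, 2, 1, 0, 1, 2, 1, 0, 4, 3, 2, 1, 0, 1, 5, 4, 3, 2, 0, 2, 6, 5, 4, 3, 2, 0, 2, 0, 1, 3, 2, 1, 4, 3, 2, 1, 0, 5, 4, 3, 2, 1, 0, 1, 2, 3, 4, 6, 5, 4, 3, 2, 1, 1, 0, 2, 0, 2, 3, 2, 1, 0, 1, 2, 1, 0, 4, 3, 2, 1, 0, 1, 5, 4, 3, 2, 0, 2, 6, 5, 4, 3, 2, 0, 2, 0, 1, 3, 2, 1, 4, 3, 2, 1, 0, 5, 4, 3, 2, 1, 0, 1, 2, 3, 4, 6, 5, 4, 3, 2, 1]]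
def subs : List (List ℕ) := [[0],
[1],
[2],
[3],
[4],
[5]]
noncomputable def chk : ℕ → Bool := rowChk row jrow fget sl cols (nat_lit 120) (nat_lit 120) (nat_lit 131071) (nat_lit 127) (nat_lit 131072) (nat_lit 119) (nat_lit 136) (nat_lit 8191) (nat_lit 6) (nat_lit 63) (nat_lit 7) (nat_lit 127) cl (nat_lit 91) wt7
theorem p0 : allB chk 7 0 = true := by decide +kernel
theorem all_chk : AllLt chk 120 := by
  have h := AllLt.zero chk
  have h := h.step 120 p0 (by decide +kernel)
  exact h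
/-- column `x` of the final table -/
noncomputable def tab (x u : ℕ) : ℕ := ft fget (nat_lit 6) (nat_lit 63) (nat_lit 7) (nat_lit 127) (Nat.mul x (nat_lit 2)) u
theorem enum {G Ω : Type*} [Group G] [MulAction G Ω] (g : ℕ → G) (ω : Ω)
    (hinv : ∀ x, g (icol x) = (g x)⁻¹) (h1 : g 7 = 1)
    (hrels : ∀ R ∈ rels, ev g R = 1) (hsubs : ∀ S ∈ subs, ev g S • ω = ω) :
    ∃ pt : ℕ → Ω, pt 0 = ω ∧ (∀ K : Subgroup G, (∀ x, g x ∈ K) → ∀ v, ∃ k ∈ K, pt v = k • ω) ∧
      ∀ x, x < 7 → ∀ u, u < 120 → tab x u < 120 ∧ g x • pt u = pt (tab x u) :=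
  sound_scaled g ω row jrow fget sl inv icol cols (nat_lit 120) (nat_lit 120) (nat_lit 131071) (nat_lit 127) (nat_lit 131072) (nat_lit 119) (nat_lit 136) (nat_lit 8191) (nat_lit 6) (nat_lit 63) (nat_lit 7) (nat_lit 127) 7 cl (nat_lit 91) wt7 rels subs 17 (nat_lit 2) 7
    (fun _ => rfl) hinv h1 hrels hsubs
    (by decide +kernel) (by decide +kernel) all_chk
universe u in
theorem isEnum : IsEnum.{u} 7 120 rels subs tab := fun _ _ _ _ g ω => enum g ω
end H16.SW7
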